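import Cfsg.Agent.Lib.Char.CoprimeBase.Colour
import Cfsg.Agent.Lib.Char.Burnside

/-!
# Five colours for primitive solvable groups, and five inequivalent regular triples
-/

set_option autoImplicit false
set_option linter.unusedSectionVars false
set_option linter.style.haveILetI false

namespace CfsgLib.Char.BaseThree

open CfsgLib.Char.OddBase CfsgLib.Char.CoprimeBase
open scoped Pointwise commutatorElement

universe u

section Primitive

variable {G Ω : Type u} [Group G] [MulAction G Ω]

/-- A primitive solvable group. -/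
theorem colGood_five [Finite G] [FaithfulSMul G Ω]
    [Nontrivial Ω] [Group.IsSolvable G]
    (hprim : MulAction.IsPreprimitive G Ω) : ColGood 5 G Ω := by
  classical
  haveI := hprim.toIsPretransitive
  obtain ⟨ω⟩ := (inferInstance : Nonempty Ω)
  haveI hnt : Nontrivial G := by
    obtain ⟨x, y, hxy⟩ := exists_pair_ne Ω
    obtain ⟨g, rfl⟩ := MulAction.exists_smul_eq G x y
    exact ⟨⟨g, 1, fun e => hxy (by rw [e, one_smul])⟩⟩
  obtain ⟨M, ⟨hMn, hM⟩, hmin⟩ := (Set.toFinite {K : Subgroup G | K.Normal ∧ K ≠ ⊥}).exists_minimal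
    ⟨⊤, ⟨inferInstance, top_ne_bot⟩⟩
  haveI := hMn
  have hmin' : ∀ K : Subgroup G, K.Normal → K ≤ M → K = ⊥ ∨ K = M := fun K hK hKM =>
    or_iff_not_imp_left.2 fun h => le_antisymm hKM (hmin ⟨hK, h⟩ hKM)
  obtain ⟨hMc', l, hl, hMpow⟩ := Coprime.minimal_normal_solvable hM hmin'
  obtain ⟨-, -, -, -, -, -, hMc⟩ := Coprime.exists_minimal_abelian M hM hmin'
  obtain ⟨-, hfaith, hirr⟩ := Coprime.primitive_stabilizer_complement hprim M hM hmin' ω
  obtain ⟨ht, hreg, -⟩ := Coprime.primitive_minimal_normal_regular hprim M hM hmin'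
  haveI := Fact.mk hl
  set H := MulAction.stabilizer G ω with hH
  have hcomm : ∀ a b : M, a * b = b * a := fun a b =>
    Subtype.ext (Subgroup.mem_centralizer_iff.1 (hMc b.2) a a.2)
  letI : CommGroup M := { (inferInstance : Group M) with mul_comm := hcomm }
  have hbij : Function.Bijective (fun m : M => (m : G) • ω) := by
    refine ⟨fun a b hab => ?_, fun x => ?_⟩
    · have : b⁻¹ * a ∈ MulAction.stabilizer M ω := by
        rw [MulAction.mem_stabilizer_iff]
        show ((b : G)⁻¹ * a) • ω = ω
        rw [mul_smul]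
        exact inv_smul_eq_iff.2 hab
      rw [hreg ω, Subgroup.mem_bot, inv_mul_eq_one] at this
      exact this.symm
    · obtain ⟨m, hm⟩ := ht.exists_smul_eq ω x
      exact ⟨m, hm⟩
  let ψ : H →* MulAut M := (MulAut.conjNormal (H := M)).comp H.subtype
  letI instM : DistribMulAction H (Additive M) :=
    { smul := fun h v => Additive.ofMul (ψ h (Additive.toMul v))
      one_smul := fun v => by
        show Additive.ofMul (ψ 1 (Additive.toMul v)) = v
        rw [map_one]; rfl
      mul_smul := fun a b v => by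
        show Additive.ofMul (ψ (a * b) (Additive.toMul v)) = _
        rw [map_mul]; rfl
      smul_zero := fun a => by
        show Additive.ofMul (ψ a 1) = 0
        rw [map_one]; rfl
      smul_add := fun a v w => by
        show Additive.ofMul (ψ a (Additive.toMul v * Additive.toMul w)) = _
        rw [map_mul]; rfl }
  have hact : ∀ (h : H) (m : M),
      ((Additive.toMul (h • Additive.ofMul m) : M) : G) = (h : G) * m * (h : G)⁻¹ := fun h m =>
    MulAut.conjNormal_apply (H := M) (h : G) m
  haveI : FaithfulSMul H (Additive M) := by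
    refine ⟨fun {a b} hab => ?_⟩
    have h1 : ((b⁻¹ * a : H) : G) ∈ H ⊓ Subgroup.centralizer (M : Set G) := by
      refine ⟨(b⁻¹ * a).2, Subgroup.mem_centralizer_iff.2 fun m hm => ?_⟩
      have h2 : (b⁻¹ * a) • Additive.ofMul (⟨m, hm⟩ : M) = Additive.ofMul (⟨m, hm⟩ : M) := by
        rw [mul_smul, hab, inv_smul_smul]
      have h3 := hact (b⁻¹ * a) ⟨m, hm⟩
      rw [h2, toMul_ofMul] at h3
      exact eq_mul_inv_iff_mul_eq.1 h3
    rw [hfaith, Subgroup.mem_bot] at h1
    have h4 : b⁻¹ * a = 1 := Subtype.ext h1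
    exact (inv_mul_eq_one.1 h4).symm
  haveI : Nontrivial M := (Subgroup.nontrivial_iff_ne_bot M).2 hM
  have hIrr : IsIrr H (Additive M) := by
    refine ⟨inferInstance, fun U hU => ?_⟩
    set K : Subgroup G := (AddSubgroup.toSubgroup' U).map M.subtype with hK
    have hKle : K ≤ M := Subgroup.map_subtype_le _
    have hHK : H ≤ Subgroup.normalizer (K : Set G) := by
      have hstep : ∀ h ∈ H, ∀ k ∈ K, h * k * h⁻¹ ∈ K := by
        rintro h hh _ ⟨m, hm, rfl⟩
        exact ⟨_, hU ⟨h, hh⟩ (Additive.ofMul m) hm, hact ⟨h, hh⟩ m⟩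
      intro h hh
      rw [Subgroup.mem_normalizer_iff]
      refine fun k => ⟨hstep h hh k, fun hk => ?_⟩
      have := hstep h⁻¹ (inv_mem hh) _ hk
      rwa [inv_inv, show h⁻¹ * (h * k * h⁻¹) * h = k by group] at this
    rcases hirr K hKle hHK with e | e
    · left
      rw [hK, Subgroup.map_eq_bot_iff_of_injective _ M.subtype_injective] at e
      refine (AddSubgroup.eq_bot_iff_forall _).2 fun v hv => ?_
      have : Additive.toMul v ∈ AddSubgroup.toSubgroup' U := hv
      rw [e, Subgroup.mem_bot] at this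
      exact Additive.toMul.injective (this.trans toMul_zero.symm)
    · right
      refine eq_top_iff.2 fun v _ => ?_
      have : ((Additive.toMul v : M) : G) ∈ K := by rw [e]; exact (Additive.toMul v).2
      obtain ⟨m, hm, he⟩ := this
      have h5 : m = Additive.toMul v := Subtype.ext he
      rw [h5] at hm
      exact hm
  haveI : Finite (Additive M) := Finite.of_equiv M Additive.ofMul
  obtain ⟨c, hc⟩ : ∃ c : Additive M → ZMod 5, ∀ (h : H) (u : Additive M),
      (∀ v, c (h • v + u) = c v) → h = 1 ∧ u = 0 := by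
    have hl' : ∀ v : Additive M, l • v = 0 := fun v => by
      have : (Additive.toMul v) ^ l = 1 := Subtype.ext (by simpa using hMpow _ (Additive.toMul v).2)
      exact Additive.toMul.injective (this.trans toMul_zero.symm)
    obtain ⟨d, ⟨ε⟩⟩ := exists_coords hl'
    have hd : 0 < d := Nat.pos_of_ne_zero fun h0 => by
      subst h0
      obtain ⟨v, w, hvw⟩ := exists_pair_ne (Additive M)
      exact hvw (ε.injective (Subsingleton.elim _ _))
    obtain ⟨c, hc⟩ := hasColour_five (l := l) hd (le_refl 5)
    refine ⟨c ∘ ε, fun h u hpres => ?_⟩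
    let π : (Fin d → ZMod l) →+ (Fin d → ZMod l) :=
      (ε.toAddMonoidHom.comp (DistribSMul.toAddMonoidHom (Additive M) h)).comp
        ε.symm.toAddMonoidHom
    have hπ : Function.Injective π := fun a b hab =>
      ε.symm.injective (MulAction.injective h (ε.injective hab))
    obtain ⟨h1, h2⟩ := hc π hπ (ε u) fun x => by
      have := hpres (ε.symm x)
      simp only [Function.comp_apply, map_add, AddEquiv.apply_symm_apply] at this
      exact this
    refine ⟨FaithfulSMul.eq_of_smul_eq_smul (α := Additive M) fun v => ?_,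
      ε.injective (h2.trans (map_zero ε).symm)⟩
    rw [one_smul]
    refine ε.injective ?_
    have := h1 (ε v)
    simp only [π, AddMonoidHom.comp_apply] at this
    simpa using this
  set e := Equiv.ofBijective _ hbij with he
  refine ⟨fun x => c (Additive.ofMul (e.symm x)), fun g hg => ?_⟩
  set m0 := e.symm (g • ω) with hm0
  have hm0e : (m0 : G) • ω = g • ω := e.apply_symm_apply (g • ω)
  have hmem : (m0 : G)⁻¹ * g ∈ H := by
    rw [MulAction.mem_stabilizer_iff, mul_smul, ← hm0e, inv_smul_smul]
  set h0 : H := ⟨(m0 : G)⁻¹ * g, hmem⟩ with hh0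
  have hmap : ∀ n : M, g • (e n) = e (m0 * Additive.toMul (h0 • Additive.ofMul n)) := by
    intro n
    show g • ((n : G) • ω) =
      (((m0 * Additive.toMul (h0 • Additive.ofMul n) : M)) : G) • ω
    rw [Subgroup.coe_mul, hact, ← mul_smul]
    have hh : (h0 : G)⁻¹ • ω = ω := inv_smul_eq_iff.2 (MulAction.mem_stabilizer_iff.1 h0.2).symm
    rw [show g * (n : G) = (m0 : G) * (h0 : G) * (n : G) by rw [hh0]; group]
    conv_rhs => rw [mul_smul, mul_smul, mul_smul, hh]
    rw [mul_smul, mul_smul]
  obtain ⟨e1, e2⟩ := hc h0 (Additive.ofMul m0) fun v => by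
    have := hg (e (Additive.toMul v))
    simp only [hmap, Equiv.symm_apply_apply, ofMul_toMul, ofMul_mul] at this
    rw [add_comm]
    exact this
  have e3 : (h0 : G) = 1 := congrArg Subtype.val e1
  have e4 : m0 = 1 := Additive.ofMul.injective (e2.trans ofMul_one.symm)
  rw [hh0] at e3
  simpa [e4] using e3

end Primitive

section Triples

variable {p : ℕ} [hp : Fact p.Prime]

/-- The automorphisms of the space of dimension three. -/
abbrev GL3 (p : ℕ) : Type := (Fin 3 → ZMod p) ≃ₗ[ZMod p] (Fin 3 → ZMod p)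

/-- The transvection adding `x j` to coordinate `i`. -/
def trans3 (i j : Fin 3) (h : i ≠ j) : GL3 p where
  toFun x := Function.update x i (x i + x j)
  invFun x := Function.update x i (x i - x j)
  left_inv x := by
    funext k
    by_cases hk : k = i
    · subst hk; simp [Function.update_of_ne h.symm]
    · simp [Function.update_of_ne hk]
  right_inv x := by
    funext k
    by_cases hk : k = i
    · subst hk; simp [Function.update_of_ne h.symm]
    · simp [Function.update_of_ne hk]
  map_add' x y := by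
    funext k
    by_cases hk : k = i
    · subst hk; simp; abel
    · simp [Function.update_of_ne hk]
  map_smul' c x := by
    funext k
    by_cases hk : k = i
    · subst hk; simp [mul_add]
    · simp [Function.update_of_ne hk]

theorem trans3_comm {i j k : Fin 3} (hik : i ≠ k) (hkj : k ≠ j) (hij : i ≠ j) :
    trans3 (p := p) i k hik * trans3 k j hkj * (trans3 i k hik)⁻¹ * (trans3 k j hkj)⁻¹ =
      trans3 i j hij := by
  refine LinearEquiv.ext fun x => ?_
  show trans3 i k hik (trans3 k j hkj ((trans3 i k hik).symm ((trans3 k j hkj).symm x))) =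
    trans3 i j hij x
  funext m
  simp only [trans3, LinearEquiv.coe_mk, LinearEquiv.coe_symm_mk, LinearMap.coe_mk, AddHom.coe_mk]
  fin_cases i <;> fin_cases j <;> fin_cases k <;> simp_all <;> fin_cases m <;> simp <;> abel

theorem trans3_mem_derivedSeries :
    ∀ (n : ℕ) (i j : Fin 3) (h : i ≠ j), trans3 (p := p) i j h ∈ derivedSeries (GL3 p) n := by
  intro n
  induction n with
  | zero => intro i j h; simp [derivedSeries]
  | succ n ih =>
    intro i j h
    obtain ⟨k, hk1, hk2⟩ : ∃ k : Fin 3, i ≠ k ∧ k ≠ j := by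
      fin_cases i <;> fin_cases j <;> first | exact absurd rfl h | decide
    rw [← trans3_comm hk1 hk2 h, derivedSeries_succ, ← commutatorElement_def]
    exact Subgroup.commutator_mem_commutator (ih i k hk1) (ih k j hk2)

theorem not_solvable_addAut : ¬ Group.IsSolvable (GL3 p) := by
  rintro ⟨n, hn⟩
  have h := trans3_mem_derivedSeries (p := p) n 0 1 (by decide)
  rw [hn, Subgroup.mem_bot] at h
  have h1 := congrFun (LinearEquiv.congr_fun h (Pi.single 1 1)) 0
  simp [trans3] at h1

theorem isSolvable_perm_fin {n : ℕ} (hn : n ≤ 4) : Group.IsSolvable (Equiv.Perm (Fin n)) := by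
  obtain ⟨a, b, hab⟩ : ∃ a b, Nat.card (Equiv.Perm (Fin n)) = 2 ^ a * 3 ^ b := by
    rw [Nat.card_perm, Nat.card_fin]
    interval_cases n
    · exact ⟨0, 0, rfl⟩
    · exact ⟨0, 0, rfl⟩
    · exact ⟨1, 0, rfl⟩
    · exact ⟨1, 1, rfl⟩
    · exact ⟨3, 1, rfl⟩
  exact CfsgLib.Char.isSolvable_of_card_two_primes Nat.prime_two Nat.prime_three _ a b hab

/-- A solvable subgroup of the automorphisms of a space of dimension three has index above four. -/
theorem five_le_index (R : Subgroup (GL3 p)) [Group.IsSolvable R] :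
    5 ≤ R.index := by
  haveI : NeZero p := ⟨hp.out.ne_zero⟩
  haveI : Finite (GL3 p) :=
    Finite.of_injective (fun e : GL3 p => (⇑e : (Fin 3 → ZMod p) → (Fin 3 → ZMod p)))
      DFunLike.coe_injective
  by_contra h
  haveI : Group.IsSolvable R.normalCore :=
    Group.isSolvable_of_isSolvable_injective (Subgroup.inclusion_injective R.normalCore_le)
  let f := MulAction.toPermHom (GL3 p) (GL3 p ⧸ R)
  haveI : Group.IsSolvable (Equiv.Perm (GL3 p ⧸ R)) := by
    haveI := isSolvable_perm_fin (n := Nat.card (GL3 p ⧸ R)) (by rw [← Subgroup.index]; omega)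
    exact Group.isSolvable_of_surjective
      (f := (Finite.equivFin (GL3 p ⧸ R)).symm.permCongrHom.toMonoidHom)
      (MulEquiv.surjective _)
  refine not_solvable_addAut (p := p) (Group.isSolvable_of_ker_le_range R.normalCore.subtype f ?_)
  rw [Subgroup.range_subtype, Subgroup.normalCore_eq_ker]

/-- A group with a base of size three has five inequivalent regular triples. -/
theorem exists_five_triples {H W : Type u} [Group H] [Finite H] [Group.IsSolvable H]
    [AddCommGroup W] [Finite W] [Nontrivial W] [DistribMulAction H W] (hW : ∀ w : W, p • w = 0)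
    (h3 : ∃ x y z : W, ∀ h : H, h • x = x → h • y = y → h • z = z → h = 1) :
    ∃ T : ZMod 5 → Fin 3 → W, (∀ k, ∀ h : H, (∀ i, h • T k i = T k i) → h = 1) ∧
      ∀ k k', ∀ h : H, (∀ i, h • T k i = T k' i) → k = k' := by
  classical
  haveI : NeZero p := ⟨hp.out.ne_zero⟩
  -- a pair gives patterns
  have hpat : (∃ x y : W, x ≠ 0 ∧ ∀ h : H, h • x = x → h • y = y → h = 1) →
      ∃ T : ZMod 5 → Fin 3 → W, (∀ k, ∀ h : H, (∀ i, h • T k i = T k i) → h = 1) ∧
        ∀ k k', ∀ h : H, (∀ i, h • T k i = T k' i) → k = k' := by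
    rintro ⟨x, y, hx, hxy⟩
    by_cases hdeg : y = 0 ∨ y = x
    · have h1 : ∀ h : H, h • x = x → h = 1 := fun h hh => hxy h hh (by
        rcases hdeg with rfl | rfl
        · exact smul_zero h
        · exact hh)
      refine ⟨![![x, 0, 0], ![0, x, 0], ![0, 0, x], ![x, x, 0], ![x, 0, x]], fun k h e => ?_,
        fun k k' h e => ?_⟩
      · have e0 := e 0
        have e1 := e 1
        have e2 := e 2
        fin_cases k <;> simp at e0 e1 e2 <;> exact h1 h ‹_›
      · have e0 := e 0
        have e1 := e 1
        have e2 := e 2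
        fin_cases k <;> fin_cases k' <;> first | rfl | simp [hx, Ne.symm hx, smul_eq_zero_iff_eq] at e0 e1 e2
    · push Not at hdeg
      obtain ⟨hy, hyx⟩ := hdeg
      refine ⟨![![x, y, 0], ![x, 0, y], ![0, x, y], ![x, y, x], ![x, x, y]], fun k h e => ?_,
        fun k k' h e => ?_⟩
      · have e0 := e 0
        have e1 := e 1
        have e2 := e 2
        fin_cases k <;> simp at e0 e1 e2 <;> apply hxy h <;> assumption
      · have e0 := e 0
        have e1 := e 1
        have e2 := e 2
        fin_cases k <;> fin_cases k' <;> first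
          | rfl
          | (exfalso; simp [hx, Ne.symm hx, hy, Ne.symm hy, smul_eq_zero_iff_eq] at e0 e1 e2; done)
          | (exfalso; simp [hx, Ne.symm hx, hy, Ne.symm hy, smul_eq_zero_iff_eq] at e0 e1 e2
             first
               | exact hyx e1.symm
               | exact hyx (e2.symm.trans (e0.trans rfl))
               | exact hyx (MulAction.injective h (e2.trans e0.symm))
               | exact hyx (e1.symm.trans e0)
               | exact hyx (e2.symm.trans e0)
               | exact hyx (MulAction.injective h (e1.trans e0.symm))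
               | exact hyx (MulAction.injective h (e2.trans e0.symm)))
  by_cases hp2 : ∃ x y : W, x ≠ 0 ∧ ∀ h : H, h • x = x → h • y = y → h = 1
  · exact hpat hp2
  obtain ⟨x, y, z, hxyz⟩ := h3
  letI : Module (ZMod p) W := AddCommGroup.zmodModule hW
  -- the three vectors are independent
  let Ψ : (Fin 3 → ZMod p) →+ W :=
    (Fintype.linearCombination (ZMod p) ![x, y, z]).toAddMonoidHom
  have hΨ : ∀ c : Fin 3 → ZMod p, Ψ c = c 0 • x + c 1 • y + c 2 • z := fun c => by
    simp [Ψ, Fintype.linearCombination_apply, Fin.sum_univ_three]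
  have hsmul : ∀ (h : H) (c : ZMod p) (w : W), h • (c • w) = c • (h • w) := fun h c w =>
    ZMod.map_smul (DistribSMul.toAddMonoidHom W h) c w
  have hpair : ∀ u v : W, (∀ h : H, h • u = u → h • v = v → h = 1) → False := by
    intro u v huv
    by_cases hu : u = 0
    · by_cases hv : v = 0
      · obtain ⟨w, hw⟩ := exists_ne (0 : W)
        exact hp2 ⟨w, w, hw, fun h _ _ => huv h (by rw [hu, smul_zero]) (by rw [hv, smul_zero])⟩
      · exact hp2 ⟨v, u, hv, fun h e1 e2 => huv h e2 e1⟩
    · exact hp2 ⟨u, v, hu, huv⟩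
  have hinj : Function.Injective Ψ := by
    refine (injective_iff_map_eq_zero Ψ).2 fun c hc => funext fun i => ?_
    rw [hΨ] at hc
    by_contra hi
    have hdep : ∀ (v u w : W) (d e k : ZMod p), d ≠ 0 → d • v + e • u + k • w = 0 →
        v = -(d⁻¹ • (e • u + k • w)) := by
      intro v u w d e k hd h0
      rw [add_assoc, add_eq_zero_iff_eq_neg] at h0
      rw [← smul_neg, ← h0, inv_smul_smul₀ hd]
    fin_cases i
    · refine hpair y z fun h e1 e2 => hxyz h ?_ e1 e2
      rw [hdep x y z _ _ _ hi hc]
      simp only [smul_neg, hsmul, smul_add, e1, e2]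
    · refine hpair x z fun h e1 e2 => hxyz h e1 ?_ e2
      rw [hdep y x z _ _ _ hi (by rw [← hc, add_comm (c _ • y) (c _ • x)]; rfl)]
      simp only [smul_neg, hsmul, smul_add, e1, e2]
    · refine hpair x y fun h e1 e2 => hxyz h e1 e2 ?_
      rw [hdep z x y _ _ _ hi (by rw [← hc, add_assoc, add_comm]; rfl)]
      simp only [smul_neg, hsmul, smul_add, e1, e2]
  have hreg : ∀ (θ : GL3 p) (h h' : H),
      (∀ c, h • Ψ (θ c) = h' • Ψ (θ c)) → h = h' := by
    intro θ h h' e
    have e' : ∀ c, h • Ψ c = h' • Ψ c := fun c => by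
      have := e (θ.symm c)
      rwa [LinearEquiv.apply_symm_apply] at this
    have ev : ∀ (v : W) (c : Fin 3 → ZMod p), Ψ c = v → (h'⁻¹ * h) • v = v := fun v c hv => by
      rw [mul_smul, ← hv, e' c, inv_smul_smul]
    have h1 := hxyz (h'⁻¹ * h) (ev x (Pi.single 0 1) (by simp [hΨ]))
      (ev y (Pi.single 1 1) (by simp [hΨ])) (ev z (Pi.single 2 1) (by simp [hΨ]))
    exact (inv_mul_eq_one.1 h1).symm
  -- the induced group on the span
  let R : Subgroup (GL3 p) :=
    { carrier := {θ | ∃ h : H, ∀ c, h • Ψ c = Ψ (θ c)}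
      one_mem' := ⟨1, fun c => one_smul H _⟩
      mul_mem' := fun {θ θ'} ⟨h, hh⟩ ⟨h', hh'⟩ => ⟨h * h', fun c => by
        rw [mul_smul, hh', hh]; rfl⟩
      inv_mem' := fun {θ} ⟨h, hh⟩ => ⟨h⁻¹, fun c => by
        rw [inv_smul_eq_iff, hh]
        exact congrArg Ψ (LinearEquiv.apply_symm_apply θ c).symm⟩ }
  choose lift hlift using fun θ : R => θ.2
  let f : R →* H := MonoidHom.mk' lift fun θ θ' => hreg (1 : GL3 p) _ _ fun c => by
    rw [hlift, mul_smul, hlift, hlift]
    rfl
  haveI : Group.IsSolvable R := Group.isSolvable_of_isSolvable_injective (f := f) fun θ θ' e => by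
    refine Subtype.ext (LinearEquiv.ext fun c => hinj ?_)
    rw [← hlift θ, ← hlift θ']
    exact congrArg (fun h : H => h • Ψ c) e
  haveI : Finite (GL3 p) :=
    Finite.of_injective (fun e : GL3 p => (⇑e : (Fin 3 → ZMod p) → (Fin 3 → ZMod p)))
      DFunLike.coe_injective
  haveI := Fintype.ofFinite (GL3 p ⧸ R)
  obtain ⟨emb⟩ : Nonempty (ZMod 5 ↪ GL3 p ⧸ R) :=
    Function.Embedding.nonempty_of_card_le (by
      rw [ZMod.card, ← Nat.card_eq_fintype_card]
      exact five_le_index R)
  refine ⟨fun k i => Ψ ((emb k).out⁻¹ (Pi.single i 1)), fun k h e => ?_, fun k k' h e => ?_⟩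
  · refine hreg (emb k).out⁻¹ h 1 fun c => ?_
    rw [one_smul]
    have hc : c = ∑ i, c i • (Pi.single i 1 : Fin 3 → ZMod p) := (Finset.univ_sum_single c).symm.trans
      (Finset.sum_congr rfl fun i _ => by rw [← Pi.single_smul, smul_eq_mul, mul_one])
    rw [hc, map_sum, map_sum, Finset.smul_sum]
    refine Finset.sum_congr rfl fun i _ => ?_
    rw [map_smul, ZMod.map_smul, hsmul, e i]
  · have hθ : (emb k').out⁻¹ * (emb k).out ∈ R := ⟨h, fun c => by
      obtain ⟨c, rfl⟩ := ((emb k).out⁻¹ : GL3 p).surjective c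
      have hc : c = ∑ i, c i • (Pi.single i 1 : Fin 3 → ZMod p) :=
        (Finset.univ_sum_single c).symm.trans
          (Finset.sum_congr rfl fun i _ => by rw [← Pi.single_smul, smul_eq_mul, mul_one])
      show h • Ψ ((emb k).out⁻¹ c) = Ψ ((emb k').out⁻¹ ((emb k).out ((emb k).out⁻¹ c)))
      rw [show (emb k).out ((emb k).out⁻¹ c) = c from LinearEquiv.apply_symm_apply _ c]
      rw [hc, map_sum, map_sum, map_sum, map_sum, Finset.smul_sum]
      refine Finset.sum_congr rfl fun i _ => ?_
      simp only [map_smul, ZMod.map_smul, hsmul, e i]⟩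
    refine emb.injective ?_
    rw [← QuotientGroup.out_eq' (emb k), ← QuotientGroup.out_eq' (emb k')]
    exact (QuotientGroup.eq.2 hθ).symm

end Triples

end CfsgLib.Char.BaseThree
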