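import Cfsg.Agent.Lib.Char.CoprimeBase.Translates
import Cfsg.Agent.Lib.Char.CoprimeBase.Pairs

/-!
# Three vectors rigid under the semilinear normaliser of an irreducible Heisenberg type group
-/

set_option autoImplicit false
set_option linter.unusedSectionVars false
set_option linter.style.haveILetI false

namespace CfsgLib.Char.BaseThree

open CfsgLib.Char.CoprimeBase

universe u

variable {K V : Type u} [Field K] [AddCommGroup V] [Module K V]

/-- A semilinear map moving a group to itself. -/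
def SemiNorm (D : Subgroup (V ≃ₗ[K] V)) (σ : K →+* K) (g : V →+ V) : Prop :=
  (∀ (k : K) (v : V), g (k • v) = σ k • g v) ∧ ∀ d ∈ D, ∃ e ∈ D, ∀ v, g (d v) = e (g v)

/-- A ring endomorphism fixing a generator of the units is the identity. -/
theorem ringHom_eq_id_of_generator {σ : K →+* K} {ω : Kˣ}
    (hω : ∀ x : Kˣ, x ∈ Subgroup.zpowers ω) (h : σ ω = ω) (k : K) : σ k = k := by
  by_cases hk : k = 0
  · rw [hk, map_zero]
  obtain ⟨i, hi⟩ := Subgroup.mem_zpowers_iff.1 (hω (Units.mk0 k hk))
  have : (ω : K) ^ i = k := by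
    rw [← Units.val_zpow_eq_zpow_val, hi, Units.val_mk0]
  rw [← this, map_zpow₀, h]

variable [Finite V] [Nontrivial V] {D : Subgroup (V ≃ₗ[K] V)} {l : ℕ} [Fact l.Prime]

section Colour

variable {n : ℕ}

open Classical in
/-- The colours of the translates. -/
noncomputable def col (ω : K) (w : Fin n → ZMod l) : K × K :=
  if w = 0 then (0, 0)
  else if ∃ i : Fin n, (i : ℕ) = 0 ∧ w = bas i then (0, 1)
  else if ∃ i : Fin n, w = bas i then (1, 0)
  else if ∃ i j : Fin n, (j : ℕ) = i + 1 ∧ w = bas i + bas j then (1, 1)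
  else if ∃ i j : Fin n, w = bas i + bas j then (1, ω)
  else (0, 0)

theorem col_cases (ω : K) (w : Fin n → ZMod l) : col ω w = (0, 0) ∨ col ω w = (0, 1) ∨
    col ω w = (1, 0) ∨ col ω w = (1, 1) ∨ col ω w = (1, ω) := by
  unfold col
  split_ifs <;> simp

theorem bas_add_ne_bas (i j k : Fin n) : (bas i + bas j : Fin n → ZMod l) ≠ bas k := by
  intro e
  have ei := congrFun e i
  have ej := congrFun e j
  simp only [Pi.add_apply, bas_apply] at ei ej
  by_cases hij : i = j
  · subst hij
    simp only [if_true] at ei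
    split_ifs at ei with hik
    · exact one_ne_zero (α := ZMod l) (by linear_combination ei)
    · have ek := congrFun e k
      simp only [Pi.add_apply, bas_apply, if_neg (Ne.symm hik), if_true, add_zero] at ek
      exact one_ne_zero (α := ZMod l) ek.symm
  · simp only [if_true, if_neg hij, if_neg (Ne.symm hij), add_zero, zero_add] at ei ej
    split_ifs at ei ej with h1 h2
    · exact hij (h1.trans h2.symm)
    all_goals first
      | exact one_ne_zero (α := ZMod l) ei
      | exact one_ne_zero (α := ZMod l) ej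

theorem col_bas_zero (ω : K) {i : Fin n} (hi : (i : ℕ) = 0) :
    col ω (bas i : Fin n → ZMod l) = (0, 1) := by
  unfold col
  rw [if_neg (bas_ne_zero i), if_pos ⟨i, hi, rfl⟩]

theorem col_bas (ω : K) {i : Fin n} (hi : (i : ℕ) ≠ 0) :
    col ω (bas i : Fin n → ZMod l) = (1, 0) := by
  unfold col
  rw [if_neg (bas_ne_zero i), if_neg, if_pos ⟨i, rfl⟩]
  rintro ⟨j, hj, e⟩
  rw [bas_injective e] at hi
  exact hi hj

theorem col_add_succ (ω : K) {i j : Fin n} (h : (j : ℕ) = i + 1) :
    col ω (bas i + bas j : Fin n → ZMod l) = (1, 1) := by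
  have hne : i ≠ j := fun e => by rw [e] at h; omega
  unfold col
  rw [if_neg, if_neg, if_neg, if_pos ⟨i, j, h, rfl⟩]
  · rintro ⟨k, e⟩; exact bas_add_ne_bas i j k e
  · rintro ⟨k, -, e⟩; exact bas_add_ne_bas i j k e
  · intro e
    have := congrFun e i
    simp only [Pi.add_apply, bas_apply, if_true, if_neg hne, add_zero, Pi.zero_apply] at this
    exact one_ne_zero this

theorem col_add_ne_zero (ω : K) (i j : Fin n) (h : (bas i + bas j : Fin n → ZMod l) ≠ 0) :
    col ω (bas i + bas j : Fin n → ZMod l) ≠ (0, 0) := by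
  unfold col
  rw [if_neg h]
  split_ifs with h1 h2 h3 h4 <;> first
    | exact absurd ⟨i, j, rfl⟩ h4
    | simp

theorem of_col_zero_one {ω : K} {w : Fin n → ZMod l} (h : col ω w = (0, 1)) :
    ∃ i : Fin n, (i : ℕ) = 0 ∧ w = bas i := by
  unfold col at h
  split_ifs at h with h1 h2 <;> first | assumption | simp at h

theorem of_col_one_zero {ω : K} (hω : ω ≠ 0) {w : Fin n → ZMod l} (h : col ω w = (1, 0)) :
    ∃ i : Fin n, w = bas i := by
  unfold col at h
  split_ifs at h with h1 h2 h3 h4 h5 <;> first | assumption | simp [hω] at h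

theorem of_col_one_one {ω : K} (hω : ω ≠ 1) {w : Fin n → ZMod l} (h : col ω w = (1, 1)) :
    ∃ i j : Fin n, (j : ℕ) = i + 1 ∧ w = bas i + bas j := by
  unfold col at h
  split_ifs at h with h1 h2 h3 h4 h5 <;> first | assumption | simp [hω] at h

end Colour

/-- A linear symmetry fixing the three vectors is trivial. -/
theorem rigid_linear (hA : AIrr D l) (m : Mono D l) {u : V} (hu : u ∈ m.U0)
    (hspan : ∀ z ∈ m.U0, ∃ a b : K, z = a • m.x + b • u) {ω : K} (hω0 : ω ≠ 0) (hω1 : ω ≠ 1)
    (g : V ≃ₗ[K] V) (hn : ∀ d ∈ D, g * d * g⁻¹ ∈ D) (hx : g m.x = m.x)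
    (hy : g (∑ w, m.dW w (if w = 0 then u else (col ω w).1 • m.x)) =
      ∑ w, m.dW w (if w = 0 then u else (col ω w).1 • m.x))
    (hz : g (∑ w, m.dW w (if w = 0 then ω • m.x else (col ω w).2 • m.x)) =
      ∑ w, m.dW w (if w = 0 then ω • m.x else (col ω w).2 • m.x)) : g = 1 := by
  classical
  obtain ⟨hU, a, t, b, ha, ht, ht0, hb1, hb2, -, hbt, hgd⟩ := hA.sym_of_fix m hn hx
  have hcx : ∀ k : K, k • m.x ∈ m.U0 := fun k => m.U0.smul_mem k m.x_mem
  have hC := fun w => m.colour_eq hA ha ht hU hgd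
    (c := fun w => if w = 0 then u else (col ω w).1 • m.x)
    (fun w => by split <;> [exact hu; exact hcx _]) hy w
  have hD := fun w => m.colour_eq hA ha ht hU hgd
    (c := fun w => if w = 0 then ω • m.x else (col ω w).2 • m.x)
    (fun w => by split <;> exact hcx _) hz w
  have hgU : ∀ z ∈ m.U0, g z = z := by
    have h0 := hC 0
    simp only [map_zero, if_true] at h0
    rw [ht0 _ (hU _ hu)] at h0
    intro z hz'
    obtain ⟨k, k', rfl⟩ := hspan z hz'
    rw [map_add, LinearEquiv.map_smul, LinearEquiv.map_smul, hx, ← h0]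
  have hane : ∀ w, w ≠ 0 → a w ≠ 0 := fun w hw e => hw (ha (e.trans (map_zero a).symm))
  have hrel : ∀ w, w ≠ 0 → (col ω (a w)).1 • m.x = (col ω w).1 • t w m.x ∧
      (col ω (a w)).2 • m.x = (col ω w).2 • t w m.x := by
    intro w hw
    have h1 := hC w
    have h2 := hD w
    simp only [if_neg hw, if_neg (hane w hw)] at h1 h2
    rw [hgU _ (hcx _), LinearEquiv.map_smul] at h1 h2
    exact ⟨h1, h2⟩
  have hinj : ∀ k k' : K, k • m.x = k' • m.x → k = k' := fun k k' e => smul_left_injective K m.x_ne e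
  have hfix : ∀ w, w ≠ 0 → col ω w ≠ (0, 0) → col ω (a w) = col ω w ∧ t w m.x = m.x := by
    intro w hw hc
    obtain ⟨h1, h2⟩ := hrel w hw
    have hne : t w m.x ≠ 0 := fun e => m.x_ne ((t w).map_eq_zero_iff.1 e)
    have hfst : ∀ v : Fin m.n → ZMod l, (col ω v).1 = 0 ∨ (col ω v).1 = 1 := fun v => by
      rcases col_cases ω v with e | e | e | e | e <;> simp [e]
    have hone : (col ω w).1 = 1 → col ω (a w) = col ω w ∧ t w m.x = m.x := fun e => by
      rw [e, one_smul] at h1
      rcases hfst (a w) with e' | e'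
      · rw [e', zero_smul] at h1
        exact absurd h1.symm hne
      · rw [e', one_smul] at h1
        rw [← h1] at h2
        exact ⟨Prod.ext (e'.trans e.symm) (hinj _ _ h2), h1.symm⟩
    rcases col_cases ω w with e | e | e | e | e
    · exact absurd e hc
    · rw [e] at h1 h2 ⊢
      simp only [zero_smul, one_smul, smul_eq_zero, m.x_ne, or_false] at h1 h2
      rcases col_cases ω (a w) with e' | e' | e' | e' | e' <;> rw [e'] at h1 h2 ⊢
      · simp only [zero_smul] at h2
        exact absurd h2.symm hne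
      · simp only [one_smul] at h2
        exact ⟨rfl, h2.symm⟩
      all_goals exact absurd h1 one_ne_zero
    all_goals exact hone (by rw [e])
  -- the permutation of the basis
  have hb : ∀ i, ∃ j, a (bas i) = bas j := by
    intro i
    by_cases hi : (i : ℕ) = 0
    · have h := (hfix _ (bas_ne_zero i) (by rw [col_bas_zero ω hi]; simp)).1
      rw [col_bas_zero ω hi] at h
      obtain ⟨j, -, hj⟩ := of_col_zero_one h
      exact ⟨j, hj⟩
    · have h := (hfix _ (bas_ne_zero i) (by rw [col_bas ω hi]; simp)).1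
      rw [col_bas ω hi] at h
      exact of_col_one_zero hω0 h
  choose s hs using hb
  have hsinj : Function.Injective s := fun i j e => bas_injective (ha (by rw [hs, hs, e]))
  have key : ∀ k, ∀ i : Fin m.n, (i : ℕ) ≤ k → s i = i := by
    intro k
    induction k with
    | zero =>
      intro i hi
      have hi0 : (i : ℕ) = 0 := by omega
      have h := (hfix _ (bas_ne_zero i) (by rw [col_bas_zero ω hi0]; simp)).1
      rw [col_bas_zero ω hi0, hs] at h
      obtain ⟨j, hj, e⟩ := of_col_zero_one h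
      rw [bas_injective e]
      exact Fin.ext (hj.trans hi0.symm)
    | succ k ih =>
      intro i hi
      rcases Nat.lt_or_ge (i : ℕ) (k + 1) with h1 | h1
      · exact ih i (by omega)
      have hik : (i : ℕ) = k + 1 := by omega
      have hk : k < m.n := by have := i.2; omega
      obtain ⟨p, hp⟩ : ∃ p : Fin m.n, (p : ℕ) = k := ⟨⟨k, hk⟩, rfl⟩
      have hpi : p ≠ i := fun e => by rw [e] at hp; omega
      have hadd : (i : ℕ) = p + 1 := by omega
      have h0 : (bas p + bas i : Fin m.n → ZMod l) ≠ 0 := fun e => by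
        have := col_add_succ (l := l) ω hadd
        rw [e] at this
        simp [col] at this
      have h := (hfix _ h0 (by rw [col_add_succ ω hadd]; simp)).1
      rw [col_add_succ ω hadd, map_add, hs, hs, ih p (by omega)] at h
      obtain ⟨q, r, hqr, e⟩ := of_col_one_one hω1 h
      have hpsi : p ≠ s i := fun e' => hpi (hsinj ((ih p (by omega)).trans e'))
      rcases bas_add_eq hpsi (fun e' => by rw [e'] at hqr; omega) e with ⟨r1, r2⟩ | ⟨r1, r2⟩
      · refine Fin.ext ?_
        rw [r2, hqr, ← r1]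
        omega
      · exfalso
        have h3 : (s i : ℕ) + 1 = k := by rw [r2, ← hqr, ← r1, hp]
        have h4 : s (s i) = s i := ih _ (by omega)
        rw [hsinj h4, hik] at h3
        omega
  have hid : ∀ w, a w = w := eq_id_of_bas fun i => by rw [hs, key i i le_rfl]
  -- the twisting part
  have htx : ∀ w, t w m.x = m.x → ∀ z ∈ m.U0, t w z = z := fun w hw z hz' =>
    hz' _ ⟨(m.mem_T.1 (ht w)).1, hw⟩
  have htb : ∀ i, ∀ z ∈ m.U0, t (bas i) z = z := fun i => htx _ <| by
    refine (hfix _ (bas_ne_zero i) ?_).2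
    by_cases hi : (i : ℕ) = 0
    · rw [col_bas_zero ω hi]; simp
    · rw [col_bas ω hi]; simp
  have htp : ∀ i j, ∀ z ∈ m.U0, t (bas i + bas j) z = z := fun i j => by
    by_cases h0 : (bas i + bas j : Fin m.n → ZMod l) = 0
    · rw [h0]; exact ht0
    · exact htx _ (hfix _ h0 (col_add_ne_zero ω i j h0)).2
  have hbb : ∀ i j, b (bas i) (bas j) = 1 := fun i j => by
    have h := hbt (bas i) (bas j) m.x m.x_mem
    rw [htp i j _ m.x_mem, htb j _ m.x_mem, htb i _ m.x_mem] at h
    exact Units.ext (hinj _ _ (by rw [← h, Units.val_one, one_smul]))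
  have hspanW : ∀ w : Fin m.n → ZMod l, w ∈ AddSubmonoid.closure (Set.range (bas (l := l))) := by
    intro w
    haveI : NeZero l := ⟨(Fact.out : l.Prime).ne_zero⟩
    have : w = ∑ i, (w i).val • bas i := by
      funext j
      rw [Finset.sum_apply]
      simp [bas_apply, ZMod.natCast_zmod_val]
    rw [this]
    exact sum_mem fun i _ => AddSubmonoid.nsmul_mem _ (AddSubmonoid.subset_closure (Set.mem_range_self i)) _
  have hb0r : ∀ v, b v 0 = 1 := fun v => by
    have h := hb2 v 0 0
    rw [add_zero] at h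
    exact left_eq_mul.1 h
  have hb0l : ∀ v, b 0 v = 1 := fun v => by
    have h := hb1 0 0 v
    rw [add_zero] at h
    exact left_eq_mul.1 h
  have hb_all : ∀ v w, b v w = 1 := by
    intro v w
    induction hspanW v using AddSubmonoid.closure_induction with
    | mem v hv =>
      obtain ⟨i, rfl⟩ := hv
      induction hspanW w using AddSubmonoid.closure_induction with
      | mem w hw =>
        obtain ⟨j, rfl⟩ := hw
        exact hbb i j
      | zero => exact hb0r _
      | add w w' _ _ h h' => rw [hb2, h, h', one_mul]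
    | zero => exact hb0l _
    | add v v' _ _ h h' => rw [hb1, h, h', one_mul]
  have ht1 : ∀ w, ∀ z ∈ m.U0, t w z = z := by
    intro w
    induction hspanW w using AddSubmonoid.closure_induction with
    | mem w hw =>
      obtain ⟨j, rfl⟩ := hw
      exact htb j
    | zero => exact ht0
    | add w w' _ _ h h' =>
      intro z hz'
      rw [hbt w w' z hz', hb_all, Units.val_one, one_smul, h' z hz', h z hz']
  refine m.hom_ext_translates hA fun w z hz' => ?_
  rw [hgd w z hz', hgU z hz', hid, ht1 w z hz']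
  rfl

/-- A semilinear symmetry fixing the first and the last vector fixes the scalar. -/
theorem rigid_field (hA : AIrr D l) (m : Mono D l) {ω : K} (σ : K →+* K) (g : V →+ V)
    (hg : Function.Injective g) (hn : SemiNorm D σ g) (hx : g m.x = m.x) (d : (Fin m.n → ZMod l) → K)
    (hz : g (∑ w, m.dW w (if w = 0 then ω • m.x else d w • m.x)) =
      ∑ w, m.dW w (if w = 0 then ω • m.x else d w • m.x)) : σ ω = ω := by
  classical
  have hex := fun v => m.exists_sum hA v
  choose cf hcf hcfs using hex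
  have huniq : ∀ (c : (Fin m.n → ZMod l) → V), (∀ w, c w ∈ m.U0) →
      cf (∑ w, m.dW w (c w)) 0 = c 0 := fun c hc =>
    m.sum_inj hA (hcf _) hc (hcfs _).symm 0
  let P0 : V →+ V := AddMonoidHom.mk' (fun v => cf v 0) fun v v' => by
    have h := huniq (fun w => cf v w + cf v' w) fun w => add_mem (hcf v w) (hcf v' w)
    simp only [map_add, Finset.sum_add_distrib, ← hcfs] at h
    exact h
  have hP0 : ∀ u, ∀ z ∈ m.U0, P0 (m.dW u z) = if u = 0 then z else 0 := by
    intro u z hz'
    have h := huniq (fun w => if w = u then z else 0) fun w => by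
      split <;> [exact hz'; exact zero_mem _]
    rw [Finset.sum_eq_single u (fun w _ hw => by simp [hw]) (fun h => absurd (Finset.mem_univ u) h)]
      at h
    simp only [if_true] at h
    show cf (m.dW u z) 0 = _
    rw [h]
    by_cases hu : u = 0 <;> simp [hu, eq_comm]
  have hmove : ∀ w, w ≠ 0 → ∀ k : K, P0 (g (m.dW w (k • m.x))) = 0 := by
    intro w hw k
    obtain ⟨e, he, hge⟩ := hn.2 _ (m.dW_mem w)
    obtain ⟨u, t, ht, ℓ, hℓ, rfl⟩ := m.decompT hA he
    rw [hge, hn.1, hx, LinearEquiv.map_smul, LinearEquiv.mul_apply, LinearEquiv.mul_apply, hℓ.2,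
      ← LinearEquiv.map_smul]
    rw [hP0 _ _ (m.U0.smul_mem _ (m.T_mapsTo ht m.x_mem)), if_neg]
    intro hu
    subst hu
    have h1 : g (m.dW w m.x) = t m.x := by
      rw [hge, hx, LinearEquiv.mul_apply, LinearEquiv.mul_apply, hℓ.2, m.dW_zero]
      rfl
    have h2 : m.dW w m.x ∈ m.U0 := fun ℓ' hℓ' => by
      obtain ⟨e', he', hge'⟩ := hn.2 _ hℓ'.1
      have hs : e' ∈ stabD D m.x := ⟨he', by rw [← hx, ← hge', hℓ'.2]⟩
      refine hg ?_
      rw [hge', h1]
      exact m.T_mapsTo ht m.x_mem e' hs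
    exact hw (m.translate_eq hA m.x_mem h2 m.x_ne (by rw [m.dW_zero]; rfl))
  have h := congrArg P0 hz
  rw [map_sum, map_sum, map_sum] at h
  rw [Finset.sum_eq_single 0 (fun w _ hw => by rw [if_neg hw]; exact hmove w hw _)
      (fun h => absurd (Finset.mem_univ _) h),
    Finset.sum_eq_single 0 (fun w _ hw => by
      rw [if_neg hw, hP0 _ _ (m.U0.smul_mem _ m.x_mem), if_neg hw])
      (fun h => absurd (Finset.mem_univ _) h), if_pos rfl, m.dW_zero] at h
  have hid : ∀ v : V, (1 : V ≃ₗ[K] V) v = v := fun v => rfl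
  have hP0' : ∀ z ∈ m.U0, P0 z = z := fun z hz' => by
    have := hP0 0 z hz'
    rwa [m.dW_zero, hid, if_pos rfl] at this
  rw [hid, hn.1, hx, hP0' _ (m.U0.smul_mem _ m.x_mem), hP0' _ (m.U0.smul_mem _ m.x_mem)] at h
  exact smul_left_injective K m.x_ne h

/-- Three vectors fixed by no semilinear symmetry but the identity. -/
theorem exists_triple_heis [Finite K] {p : ℕ} [hp : Fact p.Prime] [CharP K p] (hA : AIrr D l)
    (hns : ∃ d ∈ D, d ∉ scalars K V) :
    ∃ x y z : V, ∀ (σ : K →+* K) (g : V →+ V), Function.Injective g → SemiNorm D σ g →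
      g x = x → g y = y → g z = z → ∀ v, g v = v := by
  classical
  have hl : l.Prime := Fact.out
  obtain ⟨d, hdD, hds⟩ := hns
  obtain ⟨e, heD, hne⟩ : ∃ e ∈ D, cmt d e ≠ 1 := by
    by_contra hall
    push Not at hall
    exact hds (hA.heis.sep d hdD fun e he => ((cmt_eq_one_iff hA.heis hdD he).1 (hall e he)).eq)
  have hpow := hA.cmt_pow hdD heD
  have hζ : orderOf (cmt d e) = l := orderOf_eq_prime hpow hne
  have hlK : (l : K) ≠ 0 := fun h0 => hne (by
    have hlp : l = p := ((Nat.prime_dvd_prime_iff_eq hp.out hl).1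
      ((CharP.cast_eq_zero_iff K p l).1 h0)).symm
    rw [hlp] at hpow
    refine Units.ext (sub_eq_zero.1 (pow_eq_zero_iff (n := p) hp.out.ne_zero |>.1 ?_))
    rw [sub_pow_char, Units.val_one, one_pow, ← Units.val_pow_eq_pow_val, hpow, Units.val_one,
      sub_self])
  obtain ⟨ω, hω⟩ := IsCyclic.exists_generator (α := Kˣ)
  have hω1 : (ω : K) ≠ 1 := fun e' => hne (by
    obtain ⟨i, hi⟩ := Subgroup.mem_zpowers_iff.1 (hω (cmt d e))
    rw [← hi, show ω = 1 from Units.ext e', one_zpow])
  obtain ⟨m⟩ := hA.exists_mono hl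
  obtain ⟨u, hu, hspan⟩ : ∃ u ∈ m.U0, ∀ z ∈ m.U0, ∃ a b : K, z = a • m.x + b • u := by
    rcases hA.line_or_plane m hl hζ hlK (p := p) with hline | ⟨⟨P⟩⟩
    · refine ⟨m.x, m.x_mem, fun z hz => ?_⟩
      obtain ⟨k, rfl⟩ := hline z hz
      exact ⟨k, 0, by rw [zero_smul, add_zero]⟩
    · exact ⟨P.t1 m.x, m.T_mapsTo P.t1_mem m.x_mem, P.span⟩
  refine ⟨m.x, ∑ w, m.dW w (if w = 0 then u else (col (ω : K) w).1 • m.x),
    ∑ w, m.dW w (if w = 0 then (ω : K) • m.x else (col (ω : K) w).2 • m.x),
    fun σ g hg hn hx hy hz => ?_⟩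
  have hσ := ringHom_eq_id_of_generator hω (rigid_field hA m σ g hg hn hx _ hz)
  let L : V →ₗ[K] V :=
    { toFun := g, map_add' := g.map_add, map_smul' := fun k v => by rw [hn.1, hσ]; rfl }
  let G := LinearEquiv.ofBijective L ⟨hg, Finite.injective_iff_surjective.1 hg⟩
  have hG : G = 1 := rigid_linear hA m hu hspan ω.ne_zero hω1 G (fun d' hd' => by
    obtain ⟨e', he', hge⟩ := hn.2 d' hd'
    have : G * d' * G⁻¹ = e' := LinearEquiv.ext fun v => by
      rw [LinearEquiv.mul_apply, LinearEquiv.mul_apply]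
      obtain ⟨v, rfl⟩ := G.surjective v
      rw [show G⁻¹ (G v) = v from LinearEquiv.symm_apply_apply G v]
      exact hge v
    rwa [this]) hx hy hz
  exact fun v => LinearEquiv.congr_fun hG v

end CfsgLib.Char.BaseThree
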