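import Cfsg.Agent.Lib.Char.BaseThree.Primitive

/-!
# Completely reducible solvable linear groups have a base of size three
-/

set_option autoImplicit false
set_option linter.unusedSectionVars false
set_option linter.style.haveILetI false

namespace CfsgLib.Char.BaseThree

open CfsgLib.Char.OddBase CfsgLib.Char.CoprimeBase

universe u v

/-- The theorem, by induction on the order. -/
theorem solBelow_all : ∀ N : ℕ, SolBelow.{u} N := by
  intro N
  induction N with
  | zero =>
    intro A V _ _ _ _ _ _ _ _ hlt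
    exact absurd hlt (Nat.not_lt_zero _)
  | succ N ih =>
    intro A V _ _ _ _ _ _ _ hcr hlt
    classical
    have hlin : SolBelow.{u} (Nat.card V) := by
      intro A' V' _ _ _ _ _ _ _ hcr' hlt'
      exact ih A' V' hcr' (by omega)
    rcases subsingleton_or_nontrivial V with hsub | hnt
    · exact ⟨0, 0, 0, fun a _ _ _ => FaithfulSMul.eq_of_smul_eq_smul (α := V) fun v =>
        Subsingleton.elim _ _⟩
    by_cases hirr : IsIrr A V
    · rcases isEmpty_or_nonempty (System A V) with hs | ⟨⟨s⟩⟩
      · exact base3_primitive hirr hs hlin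
      · exact base3_system s hirr hlin
    · obtain ⟨U, hU, hU0, hU1⟩ : ∃ U : AddSubgroup V, (∀ a : A, ∀ v ∈ U, a • v ∈ U) ∧ U ≠ ⊥ ∧
          U ≠ ⊤ := by
        by_contra hc
        push Not at hc
        exact hirr ⟨hnt, fun U hU => or_iff_not_imp_left.2 fun h0 => hc U hU h0⟩
      obtain ⟨W, hW, hbot, htop⟩ := hcr U hU
      have hW1 : W ≠ ⊤ := fun e => hU0 (by rw [e, inf_top_eq] at hbot; exact hbot)
      have hrec : ∀ (S : AddSubgroup V) (hS : ∀ a : A, ∀ v ∈ S, a • v ∈ S), S ≠ ⊤ →
          Base3 (restrictUnits S hS).range S := by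
        intro S hS hS1
        haveI : Group.IsSolvable (restrictUnits S hS).range := range_solvable _
        exact hlin _ S (hcr.restrict S hS)
          (lt_of_le_of_ne (Nat.card_le_card_of_injective _ Subtype.val_injective)
            fun e => hS1 (AddSubgroup.eq_top_of_card_eq _ e))
      exact base3_split U W hU hW hbot htop (hrec U hU hU1) (hrec W hW hW1)

/-- A completely reducible solvable group has a base of size three. -/
theorem exists_base_three {A : Type u} {V : Type v} [Group A] [Finite A] [AddCommGroup V] [Finite V]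
    [DistribMulAction A V] [FaithfulSMul A V] (hA : Group.IsSolvable A)
    (hcr : ∀ U : AddSubgroup V, (∀ a : A, ∀ v ∈ U, a • v ∈ U) →
      ∃ W : AddSubgroup V, (∀ a : A, ∀ w ∈ W, a • w ∈ W) ∧ U ⊓ W = ⊥ ∧ U ⊔ W = ⊤) :
    ∃ v₁ v₂ v₃ : V, ∀ a : A, a • v₁ = v₁ → a • v₂ = v₂ → a • v₃ = v₃ → a = 1 := by
  haveI := hA
  let Θ : A →* (AddMonoid.End V)ˣ := (DistribMulAction.toAddMonoidEnd A V).toHomUnits
  haveI : Group.IsSolvable Θ.range := Group.isSolvable_of_surjective Θ.rangeRestrict_surjective
  have hcr' : IsCR Θ.range V := by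
    intro U hU
    obtain ⟨W, hW, h1, h2⟩ := hcr U fun a v hv => hU ⟨Θ a, a, rfl⟩ v hv
    exact ⟨W, fun g w hw => by obtain ⟨_, a, rfl⟩ := g; exact hW a w hw, h1, h2⟩
  obtain ⟨x, y, z, h⟩ := solBelow_all.{v} (Nat.card V + 1) Θ.range V hcr' (Nat.lt_succ_self _)
  refine ⟨x, y, z, fun a h1 h2 h3 => ?_⟩
  have h4 := congrArg Subtype.val (h ⟨Θ a, a, rfl⟩ h1 h2 h3)
  refine FaithfulSMul.eq_of_smul_eq_smul (α := V) fun w => ?_
  rw [one_smul]
  exact DFunLike.congr_fun (congrArg Units.val h4) w

end CfsgLib.Char.BaseThree
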