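import Mathlib

/-!
# Three vectors of a tensor product that remember a triple of each factor

For a pairing `T × U → V` with contractions on both sides, semilinear symmetries fixing three
suitable vectors fix the chosen vectors of both factors up to a common scalar.
-/

set_option autoImplicit false
set_option linter.unusedSectionVars false
set_option linter.style.haveILetI false

namespace CfsgLib.Char.BaseThree

universe u

variable {K T U V : Type u} [Field K] [AddCommGroup T] [Module K T] [AddCommGroup U] [Module K U]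
  [AddCommGroup V] [Module K V]

/-- A pairing with contractions. -/
structure Pairing (K T U V : Type u) [Field K] [AddCommGroup T] [Module K T] [AddCommGroup U]
    [Module K U] [AddCommGroup V] [Module K V] where
  /-- the pairing -/
  B : T →ₗ[K] U →ₗ[K] V
  left : ∀ φ : U →ₗ[K] K, ∃ L : V →ₗ[K] T, ∀ f u, L (B f u) = φ u • f
  right : ∀ ψ : T →ₗ[K] K, ∃ R : V →ₗ[K] U, ∀ f u, R (B f u) = ψ f • u

/-- The pairing with the factors exchanged. -/
def Pairing.flip (P : Pairing K T U V) : Pairing K U T V where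
  B := P.B.flip
  left := fun φ => by
    obtain ⟨R, hR⟩ := P.right φ
    exact ⟨R, fun u f => hR f u⟩
  right := fun ψ => by
    obtain ⟨L, hL⟩ := P.left ψ
    exact ⟨L, fun u f => hL f u⟩

/-- A functional with prescribed values on an independent family. -/
theorem exists_dual_values {ι : Type} [Fintype ι] {v : ι → U} (hv : LinearIndependent K v)
    (c : ι → K) : ∃ φ : U →ₗ[K] K, ∀ i, φ (v i) = c i := by
  obtain ⟨φ, hφ⟩ := LinearMap.exists_extend ((Module.Basis.span hv).constr K c)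
  refine ⟨φ, fun i => ?_⟩
  have h := LinearMap.congr_fun hφ (Module.Basis.span hv i)
  rw [Module.Basis.constr_basis, LinearMap.comp_apply, Submodule.subtype_apply,
    Module.Basis.span_apply] at h
  exact h

/-- A semilinear injection keeps independence. -/
theorem linearIndependent_semilinear [Finite K] {ι : Type} [Fintype ι] {σ : K →+* K}
    {g : U →+ U} (hg : ∀ (k : K) (u : U), g (k • u) = σ k • g u) (hinj : Function.Injective g)
    {v : ι → U} (hv : LinearIndependent K v) : LinearIndependent K fun i => g (v i) := by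
  rw [Fintype.linearIndependent_iff] at hv ⊢
  intro c hc i
  have hσ : Function.Surjective σ := Finite.injective_iff_surjective.1 σ.injective
  choose c' hc' using fun i => hσ (c i)
  have h0 : ∑ i, c' i • v i = 0 := hinj (by
    rw [map_sum, map_zero, ← hc]
    exact Finset.sum_congr rfl fun j _ => by rw [hg, hc'])
  rw [← hc', hv c' h0 i, map_zero]

variable (P : Pairing K T U V)

/-- A symmetry of a pairing. -/
structure Pairing.Sym (σ : K →+* K) where
  /-- on the product -/
  g : V →+ V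
  /-- on the first factor -/
  gT : T →+ T
  /-- on the second factor -/
  gU : U →+ U
  smul : ∀ (k : K) (v : V), g (k • v) = σ k • g v
  smulT : ∀ (k : K) (f : T), gT (k • f) = σ k • gT f
  smulU : ∀ (k : K) (u : U), gU (k • u) = σ k • gU u
  injT : Function.Injective gT
  injU : Function.Injective gU
  map : ∀ f u, g (P.B f u) = P.B (gT f) (gU u)

variable {P}

/-- The same symmetry with the factors exchanged. -/
def Pairing.Sym.flip {σ : K →+* K} (s : P.Sym σ) : P.flip.Sym σ where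
  g := s.g
  gT := s.gU
  gU := s.gT
  smul := s.smul
  smulT := s.smulU
  smulU := s.smulT
  injT := s.injU
  injU := s.injT
  map := fun u f => s.map f u

/-- The first step: a fixed rank one vector. -/
theorem Pairing.Sym.rank_one {σ : K →+* K} (s : P.Sym σ) {f : T} {a : U} (hf : f ≠ 0) (ha : a ≠ 0)
    {ω : K} (hω : ω ≠ 0) (h : s.g (ω • P.B f a) = ω • P.B f a) :
    ∃ lam mu : K, s.gT f = lam • f ∧ s.gU a = mu • a ∧ σ ω * (lam * mu) = ω := by
  rw [s.smul, s.map] at h
  have hU : LinearIndependent K fun _ : Unit => s.gU a :=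
    linearIndependent_unique_iff.2 fun e => ha (s.injU (e.trans (map_zero _).symm))
  have hT : LinearIndependent K fun _ : Unit => s.gT f :=
    linearIndependent_unique_iff.2 fun e => hf (s.injT (e.trans (map_zero _).symm))
  obtain ⟨φ, hφ⟩ := exists_dual_values hU fun _ => 1
  obtain ⟨ψ, hψ⟩ := exists_dual_values hT fun _ => 1
  obtain ⟨L, hL⟩ := P.left φ
  obtain ⟨R, hR⟩ := P.right ψ
  have hσω : σ ω ≠ 0 := (map_ne_zero σ).2 hω
  have h1 := congrArg L h
  rw [map_smul, map_smul, hL, hL, hφ (), one_smul] at h1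
  have h2 := congrArg R h
  rw [map_smul, map_smul, hR, hR, hψ (), one_smul] at h2
  refine ⟨(σ ω)⁻¹ * (ω * φ a), (σ ω)⁻¹ * (ω * ψ f), ?_, ?_, ?_⟩
  · rw [← smul_smul, ← smul_smul, ← h1, inv_smul_smul₀ hσω]
  · rw [← smul_smul, ← smul_smul, ← h2, inv_smul_smul₀ hσω]
  · have h3 := hφ ()
    rw [show s.gU a = ((σ ω)⁻¹ * (ω * ψ f)) • a by
      rw [← smul_smul, ← smul_smul, ← h2, inv_smul_smul₀ hσω], map_smul, smul_eq_mul] at h3
    field_simp at h3 ⊢
    linear_combination h3

/-- Two and two. -/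
theorem Pairing.Sym.two_two [Finite K] {σ : K →+* K} (s : P.Sym σ) {f g : T} {a b : U}
    (hT : LinearIndependent K ![f, g]) (hU : LinearIndependent K ![a, b]) {ω : K} (hω : ω ≠ 0)
    (h1 : s.g (P.B f a + P.B g b) = P.B f a + P.B g b) (h2 : s.g (ω • P.B f a) = ω • P.B f a)
    (h3 : s.g (P.B f b) = P.B f b) :
    σ ω = ω ∧ ∃ lam mu : K, lam * mu = 1 ∧ s.gU a = mu • a ∧ s.gU b = mu • b ∧
      s.gT f = lam • f ∧ s.gT g = lam • g := by
  obtain ⟨lam, mu, hf, ha, hσ⟩ := s.rank_one (f := f) (a := a) (hT.ne_zero 0) (hU.ne_zero 0) hω h2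
  have hmu : mu ≠ 0 := fun e => hU.ne_zero 0 (s.injU (show s.gU a = s.gU 0 by
    rw [ha, e, zero_smul, map_zero]))
  rw [map_add, s.map, s.map] at h1
  rw [s.map] at h3
  obtain ⟨φ, hφ⟩ := exists_dual_values (linearIndependent_semilinear s.smulU s.injU hU) ![1, 0]
  obtain ⟨φ', hφ'⟩ := exists_dual_values (linearIndependent_semilinear s.smulU s.injU hU) ![0, 1]
  have hφa : φ (s.gU a) = 1 := hφ 0
  have hφb : φ (s.gU b) = 0 := hφ 1
  have hφa' : φ' (s.gU a) = 0 := hφ' 0
  have hφb' : φ' (s.gU b) = 1 := hφ' 1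
  rw [ha, map_smul, smul_eq_mul] at hφa hφa'
  obtain ⟨L, hL⟩ := P.left φ
  obtain ⟨L', hL'⟩ := P.left φ'
  have e1 := congrArg L h1
  simp only [map_add, hL, hφb, ha, map_smul, LinearMap.smul_apply, smul_zero, smul_eq_mul, hφa, one_smul, zero_smul, add_zero,
    hf, smul_smul] at e1
  rw [show mu * lam * φ a = lam by rw [mul_right_comm, hφa, one_mul]] at e1
  have hz : (φ a - lam) • f + φ b • g = 0 := by
    linear_combination (norm := module) -e1
  obtain ⟨hla, -⟩ := LinearIndependent.pair_iff.1 hT _ _ hz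
  have hlm : lam * mu = 1 := by rw [← sub_eq_zero.1 hla, mul_comm]; exact hφa
  refine ⟨by rwa [hlm, mul_one] at hσ, lam, mu, hlm, ha, ?_, hf, ?_⟩
  · obtain ⟨ψ, hψ⟩ := exists_dual_values hT ![1, 0]
    have hψf : ψ f = 1 := hψ 0
    obtain ⟨R, hR⟩ := P.right ψ
    have e3 := congrArg R h3
    simp only [hR, hf, LinearMap.smul_apply, map_smul, LinearMap.smul_apply, smul_zero, smul_eq_mul, hψf, one_smul, mul_one] at e3
    conv_rhs => rw [← e3, smul_smul, mul_comm, hlm, one_smul]
  · have e3 := congrArg L' h3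
    simp only [hL', hφb', one_smul, hf] at e3
    have hφ'a : φ' a = 0 := (mul_eq_zero.1 hφa').resolve_left hmu
    have hφ'b : φ' b = lam := by
      have h0 : (φ' b - lam) • f + (0 : K) • g = 0 := by
        linear_combination (norm := module) -e3
      exact sub_eq_zero.1 (LinearIndependent.pair_iff.1 hT _ _ h0).1
    have e4 := congrArg L' h1
    simp only [map_add, hL', hφb', one_smul, ha, map_smul, LinearMap.smul_apply, smul_zero, smul_eq_mul, hφ'a, mul_zero, zero_smul,
      zero_add, hφ'b] at e4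
    exact e4

/-- Two and three. -/
theorem Pairing.Sym.two_three [Finite K] {σ : K →+* K} (s : P.Sym σ) {f g : T} {a b c : U}
    (hT : LinearIndependent K ![f, g]) (hU : LinearIndependent K ![a, b, c]) {ω : K} (hω : ω ≠ 0)
    (h1 : s.g (P.B f a + P.B g b) = P.B f a + P.B g b) (h2 : s.g (ω • P.B f a) = ω • P.B f a)
    (h3 : s.g (P.B f c + P.B g a) = P.B f c + P.B g a) :
    σ ω = ω ∧ ∃ lam mu : K, lam * mu = 1 ∧ s.gU a = mu • a ∧ s.gU b = mu • b ∧ s.gU c = mu • c ∧
      s.gT f = lam • f ∧ s.gT g = lam • g := by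
  obtain ⟨lam, mu, hf, ha, hσ⟩ := s.rank_one (f := f) (a := a) (hT.ne_zero 0) (hU.ne_zero 0) hω h2
  have hmu : mu ≠ 0 := fun e => hU.ne_zero 0 (s.injU (show s.gU a = s.gU 0 by
    rw [ha, e, zero_smul, map_zero]))
  rw [map_add, s.map, s.map] at h1 h3
  have hU' := linearIndependent_semilinear s.smulU s.injU hU
  obtain ⟨φ, hφ⟩ := exists_dual_values hU' ![1, 0, 0]
  obtain ⟨φ', hφ'⟩ := exists_dual_values hU' ![0, 1, 0]
  have hφa : φ (s.gU a) = 1 := hφ 0
  have hφb : φ (s.gU b) = 0 := hφ 1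
  have hφc : φ (s.gU c) = 0 := hφ 2
  have hφa' : φ' (s.gU a) = 0 := hφ' 0
  have hφb' : φ' (s.gU b) = 1 := hφ' 1
  rw [ha, map_smul, smul_eq_mul] at hφa hφa'
  have hφ'a : φ' a = 0 := (mul_eq_zero.1 hφa').resolve_left hmu
  obtain ⟨L, hL⟩ := P.left φ
  obtain ⟨L', hL'⟩ := P.left φ'
  have e1 := congrArg L h1
  simp only [map_add, hL, hφb, ha, map_smul, LinearMap.smul_apply, smul_zero, smul_eq_mul, hφa, one_smul, zero_smul, add_zero,
    hf, smul_smul] at e1
  rw [show mu * lam * φ a = lam by rw [mul_right_comm, hφa, one_mul]] at e1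
  have hz : (φ a - lam) • f + φ b • g = 0 := by
    linear_combination (norm := module) -e1
  obtain ⟨hla, hfb⟩ := LinearIndependent.pair_iff.1 hT _ _ hz
  have hla := sub_eq_zero.1 hla
  have hlm : lam * mu = 1 := by rw [← hla, mul_comm]; exact hφa
  -- the second vector of the smaller factor
  have e3 := congrArg L h3
  simp only [map_add, hL, hφc, ha, map_smul, LinearMap.smul_apply, smul_zero, smul_eq_mul, hφa, one_smul, zero_smul, zero_add,
    hla, smul_smul, (show mu * lam = 1 by rw [mul_comm]; exact hlm)] at e3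
  have e4 := congrArg L' h1
  simp only [map_add, hL', hφb', ha, map_smul, LinearMap.smul_apply, smul_zero, smul_eq_mul, hφ'a, mul_zero, zero_smul, zero_add,
    one_smul] at e4
  have hz' : (φ c) • f + (lam - φ' b) • g = 0 := by
    linear_combination (norm := module) e4 - e3
  obtain ⟨-, hb'⟩ := LinearIndependent.pair_iff.1 hT _ _ hz'
  have hg : s.gT g = lam • g := by rw [e4, ← sub_eq_zero.1 hb']
  obtain ⟨ψ, hψ⟩ := exists_dual_values hT ![1, 0]
  obtain ⟨ψ', hψ'⟩ := exists_dual_values hT ![0, 1]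
  have hψf : ψ f = 1 := hψ 0
  have hψg : ψ g = 0 := hψ 1
  have hψf' : ψ' f = 0 := hψ' 0
  have hψg' : ψ' g = 1 := hψ' 1
  obtain ⟨R, hR⟩ := P.right ψ
  obtain ⟨R', hR'⟩ := P.right ψ'
  have hb : s.gU b = mu • b := by
    have e := congrArg R' h1
    simp only [map_add, hR', hf, hg, map_smul, LinearMap.smul_apply, smul_zero, smul_eq_mul, hψf', hψg', mul_zero, mul_one,
      zero_smul, zero_add, one_smul] at e
    conv_rhs => rw [← e, smul_smul, mul_comm, hlm, one_smul]
  have hc : s.gU c = mu • c := by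
    have e := congrArg R h3
    simp only [map_add, hR, hf, hg, map_smul, LinearMap.smul_apply, smul_zero, smul_eq_mul, hψf, hψg, mul_zero, mul_one, zero_smul,
      add_zero, one_smul] at e
    conv_rhs => rw [← e, smul_smul, mul_comm, hlm, one_smul]
  exact ⟨by rwa [hlm, mul_one] at hσ, lam, mu, hlm, ha, hb, hc, hf, hg⟩

/-- Three and three. -/
theorem Pairing.Sym.three_three [Finite K] {σ : K →+* K} (s : P.Sym σ) {f g h : T} {a b c : U}
    (hT : LinearIndependent K ![f, g, h]) (hU : LinearIndependent K ![a, b, c]) {ω : K} (hω : ω ≠ 0)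
    (h1 : s.g (P.B f a + P.B g b + P.B h c) = P.B f a + P.B g b + P.B h c)
    (h2 : s.g (ω • P.B f a) = ω • P.B f a)
    (h3 : s.g (P.B g a + P.B h b + P.B f c) = P.B g a + P.B h b + P.B f c) :
    σ ω = ω ∧ ∃ lam mu : K, lam * mu = 1 ∧ s.gU a = mu • a ∧ s.gU b = mu • b ∧ s.gU c = mu • c ∧
      s.gT f = lam • f ∧ s.gT g = lam • g ∧ s.gT h = lam • h := by
  obtain ⟨lam, mu, hf, ha, hσ⟩ := s.rank_one (f := f) (a := a) (hT.ne_zero 0) (hU.ne_zero 0) hω h2
  have hmu : mu ≠ 0 := fun e => hU.ne_zero 0 (s.injU (show s.gU a = s.gU 0 by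
    rw [ha, e, zero_smul, map_zero]))
  rw [map_add, map_add, s.map, s.map, s.map] at h1 h3
  have hU' := linearIndependent_semilinear s.smulU s.injU hU
  have hT3 : ∀ x y z : K, x • f + y • g + z • h = 0 → x = 0 ∧ y = 0 ∧ z = 0 := fun x y z e => by
    have := Fintype.linearIndependent_iff.1 hT ![x, y, z] (by simpa [Fin.sum_univ_three] using e)
    exact ⟨this 0, this 1, this 2⟩
  obtain ⟨φ, hφ⟩ := exists_dual_values hU' ![1, 0, 0]
  obtain ⟨φ₂, hφ₂⟩ := exists_dual_values hU' ![0, 1, 0]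
  obtain ⟨φ₃, hφ₃⟩ := exists_dual_values hU' ![0, 0, 1]
  have hφa : φ (s.gU a) = 1 := hφ 0
  have hφb : φ (s.gU b) = 0 := hφ 1
  have hφc : φ (s.gU c) = 0 := hφ 2
  have p2a : φ₂ (s.gU a) = 0 := hφ₂ 0
  have p2b : φ₂ (s.gU b) = 1 := hφ₂ 1
  have p2c : φ₂ (s.gU c) = 0 := hφ₂ 2
  have p3a : φ₃ (s.gU a) = 0 := hφ₃ 0
  have p3b : φ₃ (s.gU b) = 0 := hφ₃ 1
  have p3c : φ₃ (s.gU c) = 1 := hφ₃ 2
  rw [ha, map_smul, smul_eq_mul] at hφa p2a p3a
  have q2a : φ₂ a = 0 := (mul_eq_zero.1 p2a).resolve_left hmu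
  have q3a : φ₃ a = 0 := (mul_eq_zero.1 p3a).resolve_left hmu
  obtain ⟨L, hL⟩ := P.left φ
  obtain ⟨L₂, hL₂⟩ := P.left φ₂
  obtain ⟨L₃, hL₃⟩ := P.left φ₃
  have e1 := congrArg L h1
  simp only [map_add, hL, hφb, hφc, ha, map_smul, LinearMap.smul_apply, smul_zero, smul_eq_mul, hφa, one_smul, zero_smul, add_zero,
    hf, smul_smul] at e1
  rw [show mu * lam * φ a = lam by rw [mul_right_comm, hφa, one_mul]] at e1
  obtain ⟨hla, -, -⟩ := hT3 (φ a - lam) (φ b) (φ c) (by linear_combination (norm := module) -e1)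
  have hlm : lam * mu = 1 := by rw [← sub_eq_zero.1 hla, mul_comm]; exact hφa
  have e3 := congrArg L₃ h3
  simp only [map_add, hL₃, p3b, p3c, ha, map_smul, LinearMap.smul_apply, smul_zero, smul_eq_mul, q3a, mul_zero, one_smul, zero_smul,
    add_zero, zero_add, hf] at e3
  obtain ⟨hx, -, hz⟩ := hT3 (φ₃ c - lam) 0 (φ₃ b) (by linear_combination (norm := module) -e3)
  have e4 := congrArg L₃ h1
  simp only [map_add, hL₃, p3b, p3c, ha, map_smul, LinearMap.smul_apply, smul_zero, smul_eq_mul, q3a, mul_zero, one_smul, zero_smul,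
    add_zero, zero_add, hz, sub_eq_zero.1 hx] at e4
  have e5 := congrArg L₂ h3
  simp only [map_add, hL₂, p2b, p2c, ha, map_smul, LinearMap.smul_apply, smul_zero, smul_eq_mul, q2a, mul_zero, one_smul, zero_smul,
    add_zero, zero_add, e4] at e5
  obtain ⟨hx', -, hz'⟩ := hT3 (φ₂ c) 0 (φ₂ b - lam) (by linear_combination (norm := module) -e5)
  have e6 := congrArg L₂ h1
  simp only [map_add, hL₂, p2b, p2c, ha, map_smul, LinearMap.smul_apply, smul_zero, smul_eq_mul, q2a, mul_zero, one_smul, zero_smul,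
    add_zero, zero_add, hx', sub_eq_zero.1 hz'] at e6
  have key : ∀ i : Fin 3, i = 1 ∨ i = 2 → s.gU (![a, b, c] i) = mu • ![a, b, c] i := by
    intro i hi
    obtain ⟨ψ, hψ⟩ := exists_dual_values hT (Pi.single i 1)
    have hψf : ψ f = 0 := by rcases hi with rfl | rfl <;> exact (hψ 0).trans (by simp)
    obtain ⟨R, hR⟩ := P.right ψ
    have e := congrArg R h1
    have hψg : ψ g = (Pi.single i 1 : Fin 3 → K) 1 := hψ 1
    have hψh : ψ h = (Pi.single i 1 : Fin 3 → K) 2 := hψ 2
    simp only [map_add, hR, hf, e4, e6, map_smul, LinearMap.smul_apply, smul_zero, smul_eq_mul, hψf, hψg, hψh, mul_zero, zero_smul,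
      zero_add] at e
    rcases hi with rfl | rfl <;>
      simp at e <;>
      · simp only [Matrix.cons_val_one, Matrix.cons_val_two, Matrix.head_cons, Matrix.tail_cons,
          Matrix.cons_val_zero, Matrix.cons_val]
        conv_rhs => rw [← e, smul_smul, mul_comm, hlm, one_smul]
  exact ⟨by rwa [hlm, mul_one] at hσ, lam, mu, hlm, ha, key 1 (Or.inl rfl), key 2 (Or.inr rfl),
    hf, e6, e4⟩

end CfsgLib.Char.BaseThree
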