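import Cfsg.Agent.Lib.Char.BaseThree.Tensor
import Cfsg.Agent.Lib.Char.CoprimeBase.Primitive

/-!
# Primitive solvable groups: three vectors with trivial common stabiliser
-/

set_option autoImplicit false
set_option linter.unusedSectionVars false
set_option linter.style.haveILetI false

namespace CfsgLib.Char.BaseThree

open CfsgLib.Char.OddBase CfsgLib.Char.CoprimeBase
open scoped commutatorElement

universe u

/-- The primitive case. -/
theorem base3_primitive {A V : Type u} [Group A] [Finite A] [AddCommGroup V] [Finite V]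
    [DistribMulAction A V] [FaithfulSMul A V] [Group.IsSolvable A] (hirr : IsIrr A V)
    (hprim : IsEmpty (System A V)) (hlin : SolBelow.{u} (Nat.card V)) : Base3 A V := by
  classical
  haveI := hirr.1
  obtain ⟨p, hp, hV⟩ := hirr.exists_prime
  haveI := Fact.mk hp
  obtain ⟨N, D, hN, hD, hab, hmax, hND, hDC, hDD, hCCD⟩ := exists_series (A := A)
  haveI := hN
  haveI := hD
  obtain ⟨x0, hx0⟩ := exists_ne (0 : V)
  set C := Subgroup.centralizer (N : Set A) with hCdef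
  have hcN : ∀ c ∈ C, ∀ n ∈ N, Commute c n := fun c hc n hn =>
    (Subgroup.mem_centralizer_iff.1 hc n hn).symm
  have hNC : N ≤ C := fun x hx => Subgroup.mem_centralizer_iff.2 fun y hy => hab y hy x hx
  letI : Field (gen (V := V) N) := (gen_isField hirr hprim N hab).toField
  haveI : Finite (gen (V := V) N) := Subtype.finite
  letI : Module (gen (V := V) N) V :=
    { smul := fun z v => (z : AddMonoid.End V) v
      one_smul := fun v => rfl
      mul_smul := fun a b v => rfl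
      smul_zero := fun a => map_zero (a : AddMonoid.End V)
      smul_add := fun a v w => map_add (a : AddMonoid.End V) v w
      add_smul := fun a b v => rfl
      zero_smul := fun v => rfl }
  haveI : CharP (gen (V := V) N) p :=
    (CharP.charP_iff_prime_eq_zero hp).2 (natCast_card_ne_zero (V := V) hV)
  -- the semilinear action of the whole group
  let cj : A → (gen (V := V) N →+* gen (V := V) N) := fun a =>
    { toFun := fun z => ⟨toEnd a * z.1 * toEnd a⁻¹, conj_mem_gen a z.2⟩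
      map_one' := Subtype.ext (by
        show toEnd a * (1 : AddMonoid.End V) * toEnd a⁻¹ = 1
        rw [mul_one, ← map_mul, mul_inv_cancel, map_one])
      map_mul' := fun x y => Subtype.ext (by
        show toEnd a * (x.1 * y.1) * toEnd a⁻¹ =
          toEnd a * x.1 * toEnd a⁻¹ * (toEnd a * y.1 * toEnd a⁻¹)
        rw [show toEnd a * x.1 * toEnd a⁻¹ * (toEnd a * y.1 * toEnd a⁻¹) =
          toEnd a * x.1 * (toEnd a⁻¹ * toEnd a) * y.1 * toEnd a⁻¹ by simp only [mul_assoc],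
          ← map_mul, inv_mul_cancel, map_one]
        simp only [mul_assoc, one_mul])
      map_zero' := Subtype.ext (by
        show toEnd a * (0 : AddMonoid.End V) * toEnd a⁻¹ = 0
        rw [mul_zero, zero_mul])
      map_add' := fun x y => Subtype.ext (by
        show toEnd a * (x.1 + y.1) * toEnd a⁻¹ = _
        rw [mul_add, add_mul]
        rfl) }
  have hcj : ∀ (a : A) (z : gen (V := V) N) (v : V), a • (z • v) = cj a z • (a • v) := fun a z v => by
    show a • z.1 v = (toEnd a : AddMonoid.End V) (z.1 ((toEnd a⁻¹ : AddMonoid.End V) (a • v)))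
    rw [toEnd_apply, toEnd_apply, inv_smul_smul]
  obtain ⟨ω, hωgen⟩ := IsCyclic.exists_generator (α := (gen (V := V) N)ˣ)
  have hω : ∀ σ : gen (V := V) N →+* gen (V := V) N, σ ω = ω → ∀ k, σ k = k :=
    fun σ h => ringHom_eq_id_of_generator hωgen h
  have hcent : ∀ a : A, (∀ k, cj a k = k) → a ∈ C := fun a ha => by
    refine Subgroup.mem_centralizer_iff.2 fun n hn => FaithfulSMul.eq_of_smul_eq_smul (α := V) fun v => ?_
    have h := hcj a ⟨toEnd n, toEnd_mem_gen hn⟩ v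
    rw [ha] at h
    rw [mul_smul, mul_smul]
    exact h.symm
  by_cases hDN : D ≤ N
  · refine ⟨x0, (ω : gen (V := V) N) • x0, 0, fun a h1 h2 _ => ?_⟩
    have hfix : cj a (ω : gen (V := V) N) = ω := by
      rw [hcj, h1] at h2
      exact smul_left_injective _ hx0 h2
    by_contra hc1
    refine hx0 (fixed_eq_zero hirr hprim N hab (hCCD ⟨hcent a (hω _ hfix), ?_⟩) hc1 h1)
    exact Subgroup.mem_centralizer_iff.2 fun d hd =>
      ((hcN a (hcent a (hω _ hfix)) d (hDN hd)).eq).symm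
  -- the linear representation of `C`
  have hlinear : ∀ c : C, ∀ (z : (gen (V := V) N)) (v : V), (c : A) • (z • v) = z • ((c : A) • v) := fun c z v =>
    DFunLike.congr_fun (commute_of_centralizes c.2 z.2) v
  let φ : C →* (V ≃ₗ[(gen (V := V) N)] V) :=
    { toFun := fun c =>
        { toFun := fun v => (c : A) • v
          map_add' := fun v w => smul_add (c : A) v w
          map_smul' := fun z v => hlinear c z v
          invFun := fun v => (c : A)⁻¹ • v
          left_inv := fun v => inv_smul_smul (c : A) v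
          right_inv := fun v => smul_inv_smul (c : A) v }
      map_one' := LinearEquiv.ext fun v => one_smul A v
      map_mul' := fun a b => LinearEquiv.ext fun v => mul_smul (a : A) (b : A) v }
  have hφ : ∀ (c : C) (v : V), φ c v = (c : A) • v := fun c v => rfl
  have hφinj : Function.Injective φ := fun a b h =>
    Subtype.ext (FaithfulSMul.eq_of_smul_eq_smul (α := V) fun v => LinearEquiv.congr_fun h v)
  have hφN : ∀ c : C, (c : A) ∈ N → φ c ∈ scalars (gen (V := V) N) V := by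
    intro c hc
    let z : (gen (V := V) N) := ⟨toEnd (c : A), toEnd_mem_gen hc⟩
    have hz : z ≠ 0 := fun e => hx0 ((smul_eq_zero_iff_eq (c : A)).1
      (show (c : A) • x0 = 0 from DFunLike.congr_fun (congrArg Subtype.val e) x0))
    exact ⟨Units.mk0 z hz, LinearEquiv.ext fun v => rfl⟩
  have hsc : ∀ c : C, φ c ∈ scalars (gen (V := V) N) V → ∀ e : C, Commute (c : A) e := by
    rintro c ⟨k, hk⟩ e
    have h1 : φ (c * e) = φ (e * c) := by rw [map_mul, map_mul, ← hk, scal_comm]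
    exact congrArg Subtype.val (hφinj h1)
  have hcomm : ∀ x ∈ D, ∀ y ∈ D, ⁅x, y⁆ ∈ N := fun x hx y hy =>
    hDD (Subgroup.commutator_mem_commutator hx hy)
  -- Heisenberg type
  have hHeis : ∀ R : Subgroup A, R.Normal → N ≤ R → R ≤ D → Heis (liftG φ R) := by
    intro R hR hNR hRD
    refine ⟨scal_mem_liftG φ R, ?_, ?_⟩
    · rintro d ⟨a, ha, k, rfl⟩ e ⟨b, hb, k', rfl⟩
      obtain ⟨z, hz⟩ := hφN (b * a * b⁻¹ * a⁻¹) (by
        have := hcomm _ (hRD hb) _ (hRD ha)
        rwa [commutatorElement_def] at this)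
      refine ⟨z, ?_⟩
      have hba : φ b * φ a = scal z * (φ a * φ b) := by
        rw [hz, ← map_mul, ← map_mul, ← map_mul]
        congr 1
        group
      calc scal k' * φ b * (scal k * φ a) = scal k' * (φ b * scal k) * φ a := by group
        _ = scal k' * scal k * (φ b * φ a) := by rw [scal_comm k (φ b)]; group
        _ = scal k * scal k' * (scal z * (φ a * φ b)) := by
            rw [hba, ← map_mul, mul_comm k' k, map_mul]
        _ = scal z * (scal k * scal k') * (φ a * φ b) := by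
            rw [← mul_assoc, ← map_mul, ← map_mul, ← map_mul, ← map_mul]
            congr 2
            rw [mul_comm]
        _ = scal z * (scal k * (φ a * scal k') * φ b) := by rw [scal_comm k' (φ a)]; group
        _ = _ := by group
    · rintro d ⟨a, ha, k, rfl⟩ hcen
      have hac : (a : A) ∈ R ⊓ Subgroup.centralizer (R : Set A) := by
        refine ⟨ha, Subgroup.mem_centralizer_iff.2 fun e he => ?_⟩
        have h1 := hcen (φ ⟨e, hDC (hRD he)⟩) (apply_mem_liftG φ he)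
        rw [← mul_assoc, scal_comm k, mul_assoc, mul_assoc, ← map_mul, ← map_mul] at h1
        exact congrArg Subtype.val (hφinj (mul_left_cancel h1))
      haveI := hR
      have hZ : R ⊓ Subgroup.centralizer (R : Set A) = N := by
        refine hmax _ (Subgroup.normal_inf_normal _ _) (fun x hx y hy =>
          Subgroup.mem_centralizer_iff.1 hy.2 x hx.1) fun x hx => ⟨hNR hx, ?_⟩
        exact Subgroup.mem_centralizer_iff.2 fun r hr => (hcN r (hDC (hRD hr)) x hx).eq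
      exact mul_mem ⟨k, rfl⟩ (hφN a (hZ ▸ hac))
  set G := liftG φ C with hG
  set D' := liftG φ D with hD'
  haveI : Group.IsSolvable C := isSolvable_subgroup C
  haveI : Group.IsSolvable G := by
    rw [hG, liftG_eq_range]
    exact isSolvable_range (CoprimeBase.prodHom φ)
  haveI : C.Normal := Subgroup.normal_centralizer
  -- invariant subgroups of `C` are subspaces
  have hsub : ∀ U : AddSubgroup V, (∀ c : C, ∀ v ∈ U, c • v ∈ U) →
      ∀ z : gen (V := V) N, ∀ v ∈ U, z • v ∈ U := by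
    rintro U hU ⟨z, hz⟩
    induction hz using Subring.closure_induction with
    | mem x hx =>
      obtain ⟨n, hn, rfl⟩ := hx
      exact fun v hv => hU ⟨n, hNC hn⟩ v hv
    | zero => exact fun v _ => zero_mem U
    | one => exact fun v hv => hv
    | add x y _ _ hx hy => exact fun v hv => add_mem (hx v hv) (hy v hv)
    | neg x _ hx => exact fun v hv => neg_mem (hx v hv)
    | mul x y _ _ hx hy => exact fun v hv => hx _ (hy v hv)
  have hGcr : IsCR G V := by
    intro U hU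
    obtain ⟨X, hX, h1, h2⟩ := isCR_normal hirr C U fun c v hv =>
      hU ⟨φ c, apply_mem_liftG φ c.2⟩ v hv
    refine ⟨X, ?_, h1, h2⟩
    rintro ⟨_, c, -, k, rfl⟩ w hw
    exact hsub X hX k _ (hX c w hw)
  have hnorm : ∀ R : Subgroup A, R.Normal → ∀ g ∈ G, ∀ d ∈ liftG φ R, g * d * g⁻¹ ∈ liftG φ R :=
    fun R hR => liftG_normal φ hR
  let act : A → (V →+ V) := fun a => DistribSMul.toAddMonoidHom V a
  have hinj : ∀ a, Function.Injective (act a) := fun a => MulAction.injective a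
  have hsemi : ∀ (R : Subgroup A), R.Normal → R ≤ D → ∀ a : A,
      SemiNorm (liftG φ R) (cj a) (act a) := by
    intro R hR hRD a
    refine ⟨fun k v => hcj a k v, ?_⟩
    rintro _ ⟨c, hc, k, rfl⟩
    have hc' : a * (c : A) * a⁻¹ ∈ R := hR.conj_mem _ hc a
    refine ⟨scal (Units.map (cj a).toMonoidHom k) * φ ⟨_, hDC (hRD hc')⟩, ⟨_, hc', _, rfl⟩,
      fun v => ?_⟩
    show a • ((k : gen (V := V) N) • ((c : A) • v)) =
      cj a (k : gen (V := V) N) • ((a * (c : A) * a⁻¹) • (a • v))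
    rw [hcj, mul_smul, mul_smul, inv_smul_smul]
  have hfinish : (∃ x y z : V, (∀ a : A, a • x = x → a • y = y → a • z = z → ∀ k, cj a k = k) ∧
      ∀ g ∈ G, g x = x → g y = y → g z = z → g = 1) → Base3 A V := by
    rintro ⟨x, y, z, h, h'⟩
    refine ⟨x, y, z, fun a e1 e2 e3 => ?_⟩
    have hc := hcent a (h a e1 e2 e3)
    have h3 := h' _ (apply_mem_liftG φ (c := ⟨a, hc⟩) hc) e1 e2 e3
    exact congrArg Subtype.val (hφinj (h3.trans (map_one φ).symm))
  have htensor : ∀ R : Subgroup A, R.Normal → R ≤ D → Heis (liftG φ R) →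
      (∃ d ∈ liftG φ R, d ∉ scalars (gen (V := V) N) V) →
      (∃ U : Submodule (gen (V := V) N) V, EInv (liftG φ R) U ∧ U ≠ ⊥ ∧ U ≠ ⊤) → Base3 A V := by
    intro R hR hRD hh hn hr
    obtain ⟨x, y, z, h, h'⟩ := triple_tensor ω.ne_zero hω G hGcr (scal_mem_liftG φ C) (liftG φ R) hh
      (liftG_mono φ (hRD.trans hDC)) (hnorm R hR) hn hr hlin
    exact hfinish ⟨x, y, z, fun a e1 e2 e3 =>
      h (cj a) (act a) (hinj a) (hsemi R hR hRD a) e1 e2 e3, h'⟩
  have hheisD : Heis D' := hHeis D hD hND le_rfl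
  obtain ⟨d0, hd0, hd0N⟩ := SetLike.not_le_iff_exists.1 hDN
  have hmemN : ∀ a : C, (a : A) ∈ D → φ a ∈ scalars (gen (V := V) N) V → (a : A) ∈ N := fun a ha hs =>
    hCCD ⟨a.2, Subgroup.mem_centralizer_iff.2 fun e he => (hsc a hs ⟨e, hDC he⟩).eq.symm⟩
  have hlift : ∀ R : Subgroup A, R.Normal → N ≤ R → R ≤ D → liftG φ R = D' → R = D := by
    intro R _ hNR hRD e
    refine le_antisymm hRD fun a ha => ?_
    obtain ⟨r, hr, k, hk⟩ : φ ⟨a, hDC ha⟩ ∈ liftG φ R := e ▸ apply_mem_liftG φ (S := D) ha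
    have h1 := hmemN (⟨a, hDC ha⟩ * r⁻¹) (mul_mem ha (inv_mem (hRD hr)))
      ⟨k, by rw [map_mul, map_inv, hk, mul_inv_cancel_right]⟩
    have h2 := mul_mem (hNR h1) hr
    simp only [Subgroup.coe_mul, InvMemClass.coe_inv, inv_mul_cancel_right] at h2
    exact h2
  -- a reducible normal subgroup
  by_cases hexR : ∃ R : Subgroup A, R.Normal ∧ N ≤ R ∧ R ≤ D ∧ R ≠ N ∧ R ≠ D
  · obtain ⟨R, hR, hNR, hRD, hRN, hRD'⟩ := hexR
    obtain ⟨a, ha, haN⟩ := SetLike.exists_of_lt (lt_of_le_of_ne hNR (Ne.symm hRN))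
    exact htensor R hR hRD (hHeis R hR hNR hRD)
      ⟨φ ⟨a, hDC (hRD ha)⟩, apply_mem_liftG φ ha, fun hs => haN (hmemN _ (hRD ha) hs)⟩
      (reducible_of_lt hheisD (hHeis R hR hNR hRD) (liftG_mono φ hRD)
        fun e => hRD' (hlift R hR hNR hRD e))
  push Not at hexR
  have hnsD : ∃ d ∈ D', d ∉ scalars (gen (V := V) N) V :=
    ⟨φ ⟨d0, hDC hd0⟩, apply_mem_liftG φ hd0, fun hs => hd0N (hmemN _ hd0 hs)⟩
  by_cases hred : ∃ U : Submodule (gen (V := V) N) V, EInv D' U ∧ U ≠ ⊥ ∧ U ≠ ⊤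
  · exact htensor D hD le_rfl hheisD hnsD hred
  push Not at hred
  -- the prime
  obtain ⟨l, hl, d1, hd1, hd1N, hd1l⟩ :
      ∃ l : ℕ, l.Prime ∧ ∃ d ∈ D, d ∉ N ∧ d ^ l ∈ N := by
    have hex : ∃ k, 0 < k ∧ d0 ^ k ∈ N :=
      ⟨orderOf d0, orderOf_pos d0, by rw [pow_orderOf_eq_one]; exact one_mem N⟩
    obtain ⟨hk0, hkN⟩ := Nat.find_spec hex
    set k := Nat.find hex with hk
    have hk1 : k ≠ 1 := fun e => hd0N (by rw [e, pow_one] at hkN; exact hkN)
    obtain ⟨l, hl, j, hj⟩ := Nat.exists_prime_and_dvd hk1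
    have hj0 : 0 < j := Nat.pos_of_ne_zero fun e => by rw [e, mul_zero] at hj; omega
    refine ⟨l, hl, d0 ^ j, pow_mem hd0 j, fun h => ?_, by rw [← pow_mul, mul_comm, ← hj]; exact hkN⟩
    refine Nat.find_min hex (m := j) ?_ ⟨hj0, h⟩
    rw [← hk, hj]
    exact lt_mul_of_one_lt_left hj0 hl.one_lt
  haveI := Fact.mk hl
  have hmu : ∀ a : C, (a : A) ∈ D → φ a ∈ D' := fun a ha => apply_mem_liftG φ ha
  -- exponent `l` modulo `N`
  let R1 : Subgroup A :=
    { carrier := {d | d ∈ D ∧ d ^ l ∈ N}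
      one_mem' := ⟨one_mem D, by rw [one_pow]; exact one_mem N⟩
      mul_mem' := fun {a b} ha hb => by
        refine ⟨mul_mem ha.1 hb.1, ?_⟩
        let q : D →* D ⧸ N.subgroupOf D := QuotientGroup.mk' (N.subgroupOf D)
        have hc : Commute (q ⟨a, ha.1⟩) (q ⟨b, hb.1⟩) := by
          show q _ * q _ = q _ * q _
          rw [← map_mul, ← map_mul, QuotientGroup.mk'_eq_mk']
          refine ⟨⟨_, mul_mem (inv_mem (mul_mem ha.1 hb.1)) (mul_mem hb.1 ha.1)⟩, ?_, ?_⟩
          · refine Subgroup.mem_subgroupOf.2 ?_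
            show (a * b)⁻¹ * (b * a) ∈ N
            have e : (a * b)⁻¹ * (b * a) = ⁅b⁻¹, a⁻¹⁆ := by rw [commutatorElement_def]; group
            rw [e]
            exact hcomm _ (inv_mem hb.1) _ (inv_mem ha.1)
          · refine Subtype.ext ?_
            show a * b * ((a * b)⁻¹ * (b * a)) = b * a
            group
        have ea : q ((⟨a, ha.1⟩ : D) ^ l) = 1 :=
          (QuotientGroup.eq_one_iff _).2 (Subgroup.mem_subgroupOf.2 (by simpa using ha.2))
        have eb : q ((⟨b, hb.1⟩ : D) ^ l) = 1 :=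
          (QuotientGroup.eq_one_iff _).2 (Subgroup.mem_subgroupOf.2 (by simpa using hb.2))
        have h1 : q ((⟨a, ha.1⟩ * ⟨b, hb.1⟩ : D) ^ l) = 1 := by
          rw [map_pow, map_mul, hc.mul_pow, ← map_pow, ← map_pow, ea, eb, one_mul]
        have h2 := Subgroup.mem_subgroupOf.1 ((QuotientGroup.eq_one_iff _).1 h1)
        simpa using h2
      inv_mem' := fun {a} ha => ⟨inv_mem ha.1, by rw [inv_pow]; exact inv_mem ha.2⟩ }
  have hR1 : R1 = D := by
    refine hexR R1 ⟨fun d hd g => ⟨hD.conj_mem d hd.1 g, ?_⟩⟩ (fun n hn => ⟨hND hn, pow_mem hn l⟩)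
      (fun d hd => hd.1) (fun e => hd1N (e ▸ (⟨hd1, hd1l⟩ : d1 ∈ R1)))
    rw [conj_pow]
    exact hN.conj_mem _ hd.2 g
  have hscalpow : ∀ a : C, (a : A) ∈ D → φ a ^ l ∈ scalars (gen (V := V) N) V := fun a ha => by
    rw [← map_pow]
    exact hφN _ (by
      have : (a : A) ∈ R1 := hR1 ▸ ha
      rw [Subgroup.coe_pow]
      exact this.2)
  -- the scalars `l`-th powers
  let Pw : (gen (V := V) N)ˣ → Prop := fun x => ∃ c : (gen (V := V) N)ˣ, x = c ^ l ∨ (l = 2 ∧ x = -(c ^ l))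
  have hPmul : ∀ x y, Pw x → Pw y → Pw (x * y) := by
    rintro x y ⟨c, hc⟩ ⟨c', hc'⟩
    refine ⟨c * c', ?_⟩
    rcases hc with rfl | ⟨e, rfl⟩ <;> rcases hc' with rfl | ⟨e', rfl⟩
    · exact Or.inl (mul_pow c c' l).symm
    · exact Or.inr ⟨e', by rw [mul_neg, mul_pow]⟩
    · exact Or.inr ⟨e, by rw [neg_mul, mul_pow]⟩
    · exact Or.inl (by rw [neg_mul_neg, mul_pow])
  have hPinv : ∀ x, Pw x → Pw x⁻¹ := by
    rintro x ⟨c, rfl | ⟨e, rfl⟩⟩
    · exact ⟨c⁻¹, Or.inl (inv_pow c l).symm⟩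
    · exact ⟨c⁻¹, Or.inr ⟨e, by rw [inv_neg, inv_pow]⟩⟩
  have hPl : ∀ c : (gen (V := V) N)ˣ, Pw (c ^ l) := fun c => ⟨c, Or.inl rfl⟩
  have hPc : ∀ {d e : V ≃ₗ[(gen (V := V) N)] V}, d ∈ D' → e ∈ D' → d ^ l ∈ scalars (gen (V := V) N) V →
      Pw (cmt d e ^ (l * (l - 1) / 2)) := by
    intro d e hd he hp'
    have h1 := cmt_pow_eq_one hheisD hd he hp'
    by_cases hl2 : l = 2
    · subst hl2
      rcases eq_or_ne (cmt d e) 1 with e1 | e1
      · exact ⟨1, Or.inl (by rw [e1, one_pow, one_pow])⟩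
      · exact ⟨1, Or.inr ⟨rfl, by rw [neg_one_of_pow_two h1 e1]; norm_num⟩⟩
    · obtain ⟨k, hk⟩ := hl.odd_of_ne_two hl2
      refine ⟨1, Or.inl ?_⟩
      rw [hk, show (2 * k + 1) * (2 * k + 1 - 1) / 2 = (2 * k + 1) * k by
        rw [Nat.add_sub_cancel, show (2 * k + 1) * (2 * k) = (2 * k + 1) * k * 2 by ring,
          Nat.mul_div_cancel _ two_pos], pow_mul, ← hk, h1, one_pow, one_pow]
  let Nu : A → (gen (V := V) N)ˣ → Prop := fun a x => ∃ h : a ∈ D, φ ⟨a, hDC h⟩ ^ l = scal x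
  have hnu : ∀ a ∈ D, ∃ x, Nu a x := fun a ha => by
    obtain ⟨x, hx⟩ := hscalpow ⟨a, hDC ha⟩ ha
    exact ⟨x, ha, hx.symm⟩
  have hnu_mul : ∀ a b x y, Nu a x → Nu b y → ∃ z, Pw z ∧ Nu (a * b) (z * (x * y)) := by
    rintro a b x y ⟨ha, hx⟩ ⟨hb, hy⟩
    refine ⟨_, hPc (hmu ⟨a, hDC ha⟩ ha) (hmu ⟨b, hDC hb⟩ hb) ⟨x, hx.symm⟩, mul_mem ha hb, ?_⟩
    rw [show (⟨a * b, hDC (mul_mem ha hb)⟩ : C) = ⟨a, hDC ha⟩ * ⟨b, hDC hb⟩ from rfl, map_mul,
      mul_pow_cmt hheisD (hmu ⟨a, hDC ha⟩ ha) (hmu ⟨b, hDC hb⟩ hb), hx, hy, map_mul, map_mul]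
  have hnu_uniq : ∀ a x y, Nu a x → Nu a y → x = y := by
    rintro a x y ⟨_, hx⟩ ⟨_, hy⟩
    exact scal_injective (hx.symm.trans hy)
  have hnuN : ∀ n ∈ N, ∃ x, Nu n x ∧ Pw x := by
    intro n hn
    obtain ⟨k, hk⟩ := hφN ⟨n, hNC hn⟩ hn
    exact ⟨k ^ l, ⟨hND hn, by rw [map_pow, hk]⟩, hPl k⟩
  let R2 : Subgroup A :=
    { carrier := {a | ∃ x, Nu a x ∧ Pw x}
      one_mem' := hnuN 1 (one_mem N)
      mul_mem' := by
        rintro a b ⟨x, hx, hPx⟩ ⟨y, hy, hPy⟩
        obtain ⟨z, hz, hzn⟩ := hnu_mul a b x y hx hy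
        exact ⟨_, hzn, hPmul _ _ hz (hPmul _ _ hPx hPy)⟩
      inv_mem' := by
        rintro a ⟨x, ⟨ha, hx⟩, hPx⟩
        refine ⟨x⁻¹, ⟨inv_mem ha, ?_⟩, hPinv x hPx⟩
        rw [show (⟨a⁻¹, hDC (inv_mem ha)⟩ : C) = (⟨a, hDC ha⟩ : C)⁻¹ from rfl, map_inv, inv_pow, hx,
          ← map_inv] }
  have hR2n : R2.Normal := by
    refine ⟨fun a ha g => ?_⟩
    obtain ⟨x, ⟨haD, hx⟩, c, hc⟩ := ha
    let cj : (gen (V := V) N) → (gen (V := V) N) := fun z => ⟨toEnd g * z.1 * toEnd g⁻¹, conj_mem_gen g z.2⟩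
    have hcj : ∀ (z : (gen (V := V) N)) (v : V), cj z • v = g • (z • (g⁻¹ • v)) := fun z v => rfl
    have hconj : ∀ (z : (gen (V := V) N)) (v : V), cj z • (g • v) = g • (z • v) := fun z v => by
      rw [hcj, inv_smul_smul]
    have hcne : cj (c : (gen (V := V) N)) ≠ 0 := fun e => hx0 (by
      have h1 := hconj (c : (gen (V := V) N)) ((c : (gen (V := V) N))⁻¹ • (g⁻¹ • x0))
      rw [e, zero_smul, smul_inv_smul₀ c.ne_zero, smul_inv_smul] at h1
      exact h1.symm)
    have hnew : ∀ k : ℕ, ∀ v, (φ ⟨g * a * g⁻¹, hDC (hD.conj_mem a haD g)⟩ ^ k) v =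
        g • ((φ ⟨a, hDC haD⟩ ^ k) (g⁻¹ • v)) := by
      intro k
      induction k with
      | zero => intro v; simp [smul_inv_smul]
      | succ k ih =>
        intro v
        rw [pow_succ', LinearEquiv.mul_apply, ih, pow_succ', LinearEquiv.mul_apply, hφ, hφ]
        simp only [mul_smul, inv_smul_smul]
    have hpowc : ∀ k : ℕ, ∀ v : V, (c : (gen (V := V) N)) ^ k • v = g⁻¹ • (cj (c : (gen (V := V) N)) ^ k • (g • v)) := by
      intro k
      induction k with
      | zero => intro v; rw [pow_zero, pow_zero, one_smul, one_smul, inv_smul_smul]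
      | succ k ih =>
        intro v
        rw [pow_succ, mul_smul, ih, pow_succ, mul_smul, hconj]
    rcases hc with hc | ⟨hl2, hc⟩
    · refine ⟨Units.mk0 _ hcne ^ l, ⟨hD.conj_mem a haD g, LinearEquiv.ext fun v => ?_⟩, _, Or.inl rfl⟩
      rw [hnew, hx, hc, scal_apply, scal_apply, Units.val_pow_eq_pow_val, Units.val_pow_eq_pow_val,
        Units.val_mk0, hpowc, smul_inv_smul, smul_inv_smul]
    · refine ⟨-(Units.mk0 _ hcne ^ l), ⟨hD.conj_mem a haD g, LinearEquiv.ext fun v => ?_⟩, _,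
        Or.inr ⟨hl2, rfl⟩⟩
      rw [hnew, hx, hc, scal_apply, scal_apply, Units.val_neg, Units.val_neg,
        Units.val_pow_eq_pow_val, Units.val_pow_eq_pow_val, Units.val_mk0, neg_smul, neg_smul,
        smul_neg, hpowc, smul_inv_smul, smul_inv_smul]
  have hR2 : R2 = D := by
    refine hexR R2 hR2n hnuN (fun a ⟨x, ⟨ha, _⟩, _⟩ => ha) fun e => ?_
    -- otherwise `D` is abelian
    obtain ⟨γ, hγ⟩ := IsCyclic.exists_generator (α := (gen (V := V) N)ˣ)
    have hpow : ∀ a x, Nu a x → ∀ k : ℕ, ∃ z, Pw z ∧ Nu (a ^ k) (z * x ^ k) := by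
      intro a x hx k
      induction k with
      | zero =>
        obtain ⟨y, hy, hPy⟩ := hnuN 1 (one_mem N)
        exact ⟨y, hPy, by simpa using hy⟩
      | succ k ih =>
        obtain ⟨z, hz, hzn⟩ := ih
        obtain ⟨z', hz', hzn'⟩ := hnu_mul _ _ _ _ hzn hx
        refine ⟨z' * z, hPmul _ _ hz' hz, ?_⟩
        rw [pow_succ, pow_succ]
        simpa [mul_assoc] using hzn'
    refine hd1N (hCCD ⟨hDC hd1, Subgroup.mem_centralizer_iff.2 fun b hb => ?_⟩)
    obtain ⟨x, hx⟩ := hnu d1 hd1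
    obtain ⟨y, hy⟩ := hnu b hb
    obtain ⟨i, hi⟩ := Subgroup.mem_zpowers_iff.1 (hγ x)
    obtain ⟨j, hj⟩ := Subgroup.mem_zpowers_iff.1 (hγ y)
    have hil : ¬ (l : ℤ) ∣ i := by
      rintro ⟨q, hq⟩
      refine hd1N (e ▸ (⟨x, hx, ⟨γ ^ q, Or.inl ?_⟩⟩ : d1 ∈ R2))
      rw [← hi, hq, mul_comm, zpow_mul, zpow_natCast]
    obtain ⟨s, hs⟩ : ∃ s : ℕ, (l : ℤ) ∣ j + s * i := by
      have hne : ((i : ZMod l)) ≠ 0 := fun h => hil ((ZMod.intCast_zmod_eq_zero_iff_dvd i l).1 h)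
      refine ⟨((-(j : ZMod l)) / (i : ZMod l)).val, (ZMod.intCast_zmod_eq_zero_iff_dvd _ l).1 ?_⟩
      push_cast
      rw [ZMod.natCast_zmod_val, div_mul_cancel₀ _ hne, add_neg_cancel]
    obtain ⟨z, hz, hzn⟩ := hpow d1 x hx s
    obtain ⟨z', hz', hzn'⟩ := hnu_mul _ _ _ _ hy hzn
    have hbN : b * d1 ^ s ∈ N := e ▸ (⟨_, hzn', hPmul _ _ hz' (by
      rw [mul_left_comm]
      refine hPmul _ _ hz ?_
      obtain ⟨q, hq⟩ := hs
      rw [← hi, ← hj, ← zpow_natCast (γ ^ i), ← zpow_mul, ← zpow_add, mul_comm i, hq, mul_comm,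
        zpow_mul, zpow_natCast]
      exact hPl _)⟩ : b * d1 ^ s ∈ R2)
    have h1 : Commute d1 (b * d1 ^ s) := hcN d1 (hDC hd1) _ hbN
    have h2 : Commute d1 b := by
      have h3 := h1.mul_right ((Commute.self_pow d1 s).inv_right)
      rwa [mul_inv_cancel_right] at h3
    exact h2.eq.symm
  have hAirr : AIrr D' l := by
    refine ⟨hheisD, fun U hU => or_iff_not_imp_left.2 fun h => hred U hU h, ?_⟩
    rintro d ⟨a, ha, k, rfl⟩
    obtain ⟨x, ⟨_, hx⟩, c, hc⟩ : (a : A) ∈ R2 := hR2 ▸ ha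
    refine ⟨(c * k)⁻¹, ?_⟩
    have h1 : scal ((c * k)⁻¹) * (scal k * φ a) = scal c⁻¹ * φ a := by
      rw [← mul_assoc, ← map_mul, mul_inv, inv_mul_cancel_right]
    rw [h1]
    have h2 : ∀ n : ℕ, (scal c⁻¹ * φ a) ^ n = scal (c⁻¹ ^ n) * φ a ^ n := fun n => by
      rw [(Commute.symm (scal_comm c⁻¹ (φ a))).mul_pow, map_pow]
    have h3 : (scal c⁻¹ * φ a) ^ l = scal (c⁻¹ ^ l * x) := by
      rw [h2, map_mul]
      congr 1
    rcases hc with hc | ⟨hl2, hc⟩
    · left
      rw [h3, hc, inv_pow, inv_mul_cancel, map_one]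
    · right
      refine ⟨hl2, ?_⟩
      rw [hl2] at h3
      rw [h3, hc, inv_pow, hl2, mul_neg, inv_mul_cancel]
  obtain ⟨x, y, z, h⟩ := exists_triple_heis (p := p) hAirr hnsD
  refine ⟨x, y, z, fun a e1 e2 e3 => FaithfulSMul.eq_of_smul_eq_smul (α := V) fun v => ?_⟩
  rw [one_smul]
  exact h (cj a) (act a) (hinj a) (hsemi D hD le_rfl a) e1 e2 e3 v

end CfsgLib.Char.BaseThree
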