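import Cfsg.Agent.Lib.Char.BaseThree.Colour
import Cfsg.Agent.Lib.Char.CoprimeBase.Reduce
import Cfsg.Agent.Lib.Char.OddBase.Main

/-!
# Bases of size three: sums, Clifford's theorem, systems of imprimitivity
-/

set_option autoImplicit false
set_option linter.unusedSectionVars false
set_option linter.style.haveILetI false

namespace CfsgLib.Char.BaseThree

open CfsgLib.Char.OddBase CfsgLib.Char.CoprimeBase

universe u

/-- Three vectors with trivial common stabiliser. -/
def Base3 (A V : Type u) [Group A] [AddCommGroup V] [DistribMulAction A V] : Prop :=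
  ∃ x y z : V, ∀ a : A, a • x = x → a • y = y → a • z = z → a = 1

/-- The statement for modules of order less than `N`. -/
def SolBelow (N : ℕ) : Prop :=
  ∀ (A V : Type u) [Group A] [Finite A] [AddCommGroup V] [Finite V] [DistribMulAction A V]
    [FaithfulSMul A V] [Group.IsSolvable A], IsCR A V → Nat.card V < N → Base3 A V

variable {A V : Type u} [Group A] [AddCommGroup V] [DistribMulAction A V]

/-- Triples on two complementary invariant subgroups give a triple. -/
theorem base3_split [FaithfulSMul A V] (U W : AddSubgroup V)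
    (hU : ∀ a : A, ∀ v ∈ U, a • v ∈ U) (hW : ∀ a : A, ∀ v ∈ W, a • v ∈ W)
    (hbot : U ⊓ W = ⊥) (htop : U ⊔ W = ⊤)
    (h1 : Base3 (restrictUnits U hU).range U) (h2 : Base3 (restrictUnits W hW).range W) :
    Base3 A V := by
  obtain ⟨x1, y1, z1, hb1⟩ := h1
  obtain ⟨x2, y2, z2, hb2⟩ := h2
  refine ⟨(x1 : V) + x2, (y1 : V) + y2, (z1 : V) + z2, fun a e1 e2 e3 => ?_⟩
  rw [smul_add] at e1 e2 e3
  obtain ⟨k1, k2⟩ := decompose_unique hbot (hU a _ x1.2) x1.2 (hW a _ x2.2) x2.2 e1
  obtain ⟨k3, k4⟩ := decompose_unique hbot (hU a _ y1.2) y1.2 (hW a _ y2.2) y2.2 e2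
  obtain ⟨k5, k6⟩ := decompose_unique hbot (hU a _ z1.2) z1.2 (hW a _ z2.2) z2.2 e3
  have f1 : restrictUnits U hU a = 1 :=
    congrArg Subtype.val (hb1 ⟨_, a, rfl⟩ (Subtype.ext k1) (Subtype.ext k3) (Subtype.ext k5))
  have f2 : restrictUnits W hW a = 1 :=
    congrArg Subtype.val (hb2 ⟨_, a, rfl⟩ (Subtype.ext k2) (Subtype.ext k4) (Subtype.ext k6))
  refine FaithfulSMul.eq_of_smul_eq_smul (α := V) fun v => ?_
  obtain ⟨u, hu, w, hw, rfl⟩ := AddSubgroup.mem_sup.1 (htop ▸ AddSubgroup.mem_top v)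
  rw [one_smul, smul_add]
  have g1 : a • u = u := congrArg (fun z : (AddMonoid.End U)ˣ =>
    (((z : AddMonoid.End U) ⟨u, hu⟩ : U) : V)) f1
  have g2 : a • w = w := congrArg (fun z : (AddMonoid.End W)ˣ =>
    (((z : AddMonoid.End W) ⟨w, hw⟩ : W) : V)) f2
  rw [g1, g2]

/-- Clifford: a normal subgroup of an irreducible group acts completely reducibly. -/
theorem isCR_normal [Finite V] (hirr : IsIrr A V) (C : Subgroup A) [C.Normal] : IsCR C V := by
  classical
  haveI := hirr.1
  haveI : Finite (AddSubgroup V) :=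
    Finite.of_injective (fun S : AddSubgroup V => (S : Set V)) SetLike.coe_injective
  intro U hU
  obtain ⟨X, ⟨hX, hUX⟩, hmax⟩ := (Set.toFinite
    {X : AddSubgroup V | (∀ c : C, ∀ v ∈ X, c • v ∈ X) ∧ U ⊓ X = ⊥}).exists_maximal
    ⟨⊥, fun c v hv => by rw [AddSubgroup.mem_bot.1 hv, smul_zero]; exact zero_mem _, inf_bot_eq _⟩
  obtain ⟨S, ⟨hS, hS0⟩, hmin⟩ := (Set.toFinite
    {S : AddSubgroup V | (∀ c : C, ∀ v ∈ S, c • v ∈ S) ∧ S ≠ ⊥}).exists_minimal
    ⟨⊤, fun c v _ => AddSubgroup.mem_top _, top_ne_bot⟩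
  refine ⟨X, hX, hUX, ?_⟩
  have hY0 : ∀ c : C, ∀ v ∈ U ⊔ X, c • v ∈ U ⊔ X := by
    intro c v hv
    obtain ⟨u, hu, x, hx, rfl⟩ := AddSubgroup.mem_sup.1 hv
    rw [smul_add]
    exact add_mem (AddSubgroup.mem_sup_left (hU c u hu)) (AddSubgroup.mem_sup_right (hX c x hx))
  have hall : ∀ a : A, ∀ s ∈ S, a • s ∈ U ⊔ X := by
    intro a
    by_contra hc
    push Not at hc
    obtain ⟨s0, hs0, hs0'⟩ := hc
    let T : AddSubgroup V := S.map (DistribSMul.toAddMonoidHom V a)
    have hT : ∀ c : C, ∀ v ∈ T, c • v ∈ T := by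
      rintro c _ ⟨s, hs, rfl⟩
      refine ⟨(⟨a⁻¹ * c * a, by
        simpa using (inferInstance : C.Normal).conj_mem _ c.2 a⁻¹⟩ : C) • s, hS _ s hs, ?_⟩
      show a • ((a⁻¹ * (c : A) * a) • s) = (c : A) • (a • s)
      rw [← mul_smul, ← mul_smul]
      group
    let R : AddSubgroup V := S ⊓ (U ⊔ X).comap (DistribSMul.toAddMonoidHom V a)
    have hR : ∀ c : C, ∀ v ∈ R, c • v ∈ R := by
      rintro c v ⟨hv1, hv2⟩
      refine ⟨hS c v hv1, ?_⟩
      show a • ((c : A) • v) ∈ U ⊔ X
      have h := hY0 ⟨a * c * a⁻¹, (inferInstance : C.Normal).conj_mem _ c.2 a⟩ (a • v) hv2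
      change (a * (c : A) * a⁻¹) • (a • v) ∈ U ⊔ X at h
      rwa [← mul_smul, inv_mul_cancel_right, mul_smul] at h
    have hR0 : R = ⊥ := by
      by_contra hne
      exact hs0' (hmin ⟨hR, hne⟩ inf_le_left hs0).2
    have hle : X ⊔ T ≤ X := hmax ⟨fun c v hv => by
        obtain ⟨x, hx, t, ht, rfl⟩ := AddSubgroup.mem_sup.1 hv
        rw [smul_add]
        exact add_mem (AddSubgroup.mem_sup_left (hX c x hx))
          (AddSubgroup.mem_sup_right (hT c t ht)), by
      refine (AddSubgroup.eq_bot_iff_forall _).2 fun v hv => ?_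
      obtain ⟨hvU, hvX⟩ := AddSubgroup.mem_inf.1 hv
      obtain ⟨x, hx, _, ⟨s, hs, rfl⟩, rfl⟩ := AddSubgroup.mem_sup.1 hvX
      have hsR : s ∈ R := ⟨hs, by
        show a • s ∈ U ⊔ X
        have := sub_mem (AddSubgroup.mem_sup_left hvU : _ ∈ U ⊔ X) (AddSubgroup.mem_sup_right hx)
        rwa [add_sub_cancel_left] at this⟩
      rw [hR0, AddSubgroup.mem_bot] at hsR
      subst hsR
      rw [map_zero, add_zero] at hvU ⊢
      have : x ∈ U ⊓ X := AddSubgroup.mem_inf.2 ⟨hvU, hx⟩
      rwa [hUX, AddSubgroup.mem_bot] at this⟩ le_sup_left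
    exact hs0' (AddSubgroup.mem_sup_right (hle (AddSubgroup.mem_sup_right ⟨s0, hs0, rfl⟩)))
  let Y : AddSubgroup V := ⨅ a : A, (U ⊔ X).comap (DistribSMul.toAddMonoidHom V a)
  have hYmem : ∀ v, v ∈ Y ↔ ∀ a : A, a • v ∈ U ⊔ X := fun v => by
    simp [Y, AddSubgroup.mem_iInf]
  rcases hirr.2 Y (fun a v hv => (hYmem _).2 fun b => by
    rw [← mul_smul]; exact (hYmem v).1 hv (b * a)) with e | e
  · refine absurd ((AddSubgroup.eq_bot_iff_forall _).2 fun s hs => ?_) hS0
    have : s ∈ Y := (hYmem s).2 fun a => hall a s hs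
    rwa [e, AddSubgroup.mem_bot] at this
  · refine eq_top_iff.2 fun v _ => ?_
    have := (hYmem v).1 (e ▸ AddSubgroup.mem_top v) 1
    rwa [one_smul] at this

/-- A system may be taken with a primitive permutation group on the summands. -/
theorem exists_primitive_system [Finite A] (s : System A V) (hirr : IsIrr A V) :
    ∃ s' : System A V, MulAction.IsPreprimitive A s'.I := by
  classical
  haveI := s.transitive hirr
  haveI : Nontrivial s.I := Fintype.one_lt_card_iff_nontrivial.1 s.two_le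
  obtain ⟨i0⟩ := (inferInstance : Nonempty s.I)
  choose gs hgs using fun i : s.I => MulAction.exists_smul_eq A i0 i
  obtain ⟨M, hM, hMs⟩ : ∃ M : Subgroup A, IsCoatom M ∧ MulAction.stabilizer A i0 ≤ M := by
    refine (eq_top_or_exists_le_coatom (MulAction.stabilizer A i0)).resolve_left fun e => ?_
    obtain ⟨j, hj⟩ := exists_ne i0
    exact hj ((hgs j).symm.trans (MulAction.mem_stabilizer_iff.1 (e ▸ Subgroup.mem_top (gs j))))
  let π : s.I → A ⧸ M := fun i => (gs i : A ⧸ M)
  have hπ : ∀ (a : A) (i : s.I), π (a • i) = a • π i := fun a i => by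
    show ((gs (a • i) : A) : A ⧸ M) = ((a * gs i : A) : A ⧸ M)
    refine QuotientGroup.eq.2 (hMs ?_)
    rw [MulAction.mem_stabilizer_iff, mul_smul, mul_smul, hgs, inv_smul_eq_iff, hgs]
  have hπs : Function.Surjective π := fun x => by
    obtain ⟨a, rfl⟩ := QuotientGroup.mk_surjective x
    refine ⟨a • i0, ?_⟩
    rw [hπ]
    show ((a * gs i0 : A) : A ⧸ M) = _
    exact QuotientGroup.mk_mul_of_mem _ (hMs (MulAction.mem_stabilizer_iff.2 (hgs i0)))
  haveI : Nontrivial (A ⧸ M) := by
    refine not_subsingleton_iff_nontrivial.1 fun hss => hM.1 ?_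
    exact QuotientGroup.subsingleton_iff.1 hss
  haveI : MulAction.IsPreprimitive A (A ⧸ M) := by
    rw [← MulAction.isCoatom_stabilizer_iff_preprimitive A ((1 : A) : A ⧸ M),
      MulAction.stabilizer_quotient]
    exact hM
  letI : Fintype (A ⧸ M) := Fintype.ofFinite _
  let W' : A ⧸ M → AddSubgroup V := fun j =>
    { carrier := {v | ∃ f : s.I → V, (∀ i, f i ∈ s.W i) ∧ (∀ i, π i ≠ j → f i = 0) ∧ ∑ i, f i = v}
      zero_mem' := ⟨fun _ => 0, fun i => zero_mem _, fun _ _ => rfl, Finset.sum_const_zero⟩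
      add_mem' := fun {v w} ⟨f, hf, hf0, hfv⟩ ⟨g, hg, hg0, hgw⟩ =>
        ⟨f + g, fun k => add_mem (hf k) (hg k), fun k hk => by
          rw [Pi.add_apply, hf0 k hk, hg0 k hk, add_zero], by
          simp only [Pi.add_apply, Finset.sum_add_distrib, hfv, hgw]⟩
      neg_mem' := fun {v} ⟨f, hf, hf0, hfv⟩ =>
        ⟨-f, fun k => neg_mem (hf k), fun k hk => by rw [Pi.neg_apply, hf0 k hk, neg_zero],
          by simp only [Pi.neg_apply, Finset.sum_neg_distrib, hfv]⟩ }
  refine ⟨{
    I := A ⧸ M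
    W := W'
    maps := ?_
    bij := ?_
    ne_bot := ?_
    two_le := Fintype.one_lt_card }, inferInstance⟩
  · rintro a j v ⟨f, hf, hf0, rfl⟩
    refine ⟨fun k => a • f (a⁻¹ • k), fun k => ?_, fun k hk => ?_, ?_⟩
    · have := s.maps a (a⁻¹ • k) _ (hf (a⁻¹ • k))
      rwa [smul_inv_smul] at this
    · show a • f (a⁻¹ • k) = 0
      rw [hf0 _ (fun e => hk (by rw [← e, hπ, smul_inv_smul])), smul_zero]
    · rw [Finset.smul_sum]
      exact Fintype.sum_equiv (MulAction.toPerm a⁻¹) _ _ fun k => rfl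
  · refine ⟨fun g g' e => ?_, fun v => ?_⟩
    · choose f hf hf0 hfs using fun j => (g j).2
      choose f' hf' hf0' hfs' using fun j => (g' j).2
      have hcol : ∀ q : (A ⧸ M) → s.I → V, (∀ j i, π i ≠ j → q j i = 0) →
          ∑ j, ∑ i, q j i = ∑ i, q (π i) i := fun q hq => by
        rw [Finset.sum_comm]
        exact Finset.sum_congr rfl fun i _ =>
          Finset.sum_eq_single (π i) (fun j _ hj => hq j i (Ne.symm hj))
            (fun h => absurd (Finset.mem_univ _) h)
      have h1 : ∑ i, f (π i) i = ∑ i, f' (π i) i := by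
        rw [← hcol f hf0, ← hcol f' hf0', Finset.sum_congr rfl fun j _ => hfs j,
          Finset.sum_congr rfl fun j _ => hfs' j]
        exact e
      have h2 := s.eq_of_sum_eq (fun i => hf (π i) i) (fun i => hf' (π i) i) h1
      funext j
      refine Subtype.ext ?_
      rw [← hfs, ← hfs']
      refine Finset.sum_congr rfl fun i _ => ?_
      by_cases hi : π i = j
      · subst hi; exact congrFun h2 i
      · rw [hf0 j i hi, hf0' j i hi]
    · obtain ⟨f, hf, rfl⟩ := s.exists_sum v
      refine ⟨fun j => ⟨∑ i, if π i = j then f i else 0, fun i => if π i = j then f i else 0,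
        fun i => by show (if π i = j then f i else 0) ∈ _; split <;> [exact hf i; exact zero_mem _],
        fun i hi => if_neg hi, rfl⟩, ?_⟩
      show ∑ j, ∑ i, (if π i = j then f i else 0) = ∑ i, f i
      rw [Finset.sum_comm]
      exact Finset.sum_congr rfl fun i _ => by simp
  · intro j e
    obtain ⟨i, rfl⟩ := hπs j
    refine s.ne_bot i ((AddSubgroup.eq_bot_iff_forall _).2 fun w hw => ?_)
    have : w ∈ W' (π i) := ⟨fun k => if k = i then w else 0, fun k => by
      show (if k = i then w else 0) ∈ _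
      split
      · next h => subst h; exact hw
      · exact zero_mem _, fun k hk => if_neg (fun h : k = i => hk (by rw [h])), by simp⟩
    rwa [e, AddSubgroup.mem_bot] at this

/-- An imprimitive group. -/
theorem base3_system [Finite A] [Finite V] [FaithfulSMul A V] [Group.IsSolvable A]
    (s0 : System A V) (hirr : IsIrr A V) (hlin : SolBelow.{u} (Nat.card V)) : Base3 A V := by
  classical
  obtain ⟨s, hprimI⟩ := exists_primitive_system s0 hirr
  haveI := hirr.1
  haveI := s.transitive hirr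
  haveI : Nontrivial s.I := Fintype.one_lt_card_iff_nontrivial.1 s.two_le
  obtain ⟨i0⟩ := (inferInstance : Nonempty s.I)
  obtain ⟨p, hp, hV⟩ := hirr.exists_prime
  haveI := Fact.mk hp
  set St := MulAction.stabilizer A i0 with hSt
  set W0 := s.W i0 with hW0
  have hStW : ∀ a : St, ∀ v ∈ W0, a • v ∈ W0 := fun a v hv => by
    have := s.maps (a : A) i0 v hv
    rwa [MulAction.mem_stabilizer_iff.1 a.2] at this
  set ρ := restrictUnits W0 hStW with hρ
  choose gs hgs using fun i : s.I => MulAction.exists_smul_eq A i0 i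
  haveI hWn : Nontrivial W0 := (AddSubgroup.nontrivial_iff_ne_bot W0).2 (s.ne_bot i0)
  have hgsmem : ∀ (i : s.I) (w : W0), gs i • (w : V) ∈ s.W i := fun i w => by
    have := s.maps (gs i) i0 w w.2
    rwa [hgs] at this
  have hback : ∀ (i : s.I), ∀ v ∈ s.W i, (gs i)⁻¹ • v ∈ W0 := fun i v hv => by
    have := s.maps (gs i)⁻¹ i v hv
    rwa [show (gs i)⁻¹ • i = i0 by rw [inv_smul_eq_iff, hgs]] at this
  have hh : ∀ (a : A) i, ∃ h : St, a * gs i = gs (a • i) * h := fun a i =>
    ⟨⟨(gs (a • i))⁻¹ * (a * gs i), by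
      rw [MulAction.mem_stabilizer_iff, mul_smul, mul_smul, hgs, inv_smul_eq_iff, hgs]⟩, by group⟩
  have hWlt : Nat.card W0 < Nat.card V := by
    rw [s.card_V hirr i0]
    calc Nat.card W0 = Nat.card W0 ^ 1 := (pow_one _).symm
      _ < _ := Nat.pow_lt_pow_right (Finite.one_lt_card : 1 < Nat.card W0)
        (by have := s.two_le; omega)
  haveI : Group.IsSolvable St := isSolvable_subgroup St
  haveI := isSolvable_range ρ
  have hirr0 : IsIrr ρ.range W0 := by
    refine ⟨inferInstance, fun U hU => ?_⟩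
    have hU' : ∀ (h : St) (v : W0), v ∈ U → ∃ w ∈ U, (w : V) = (h : A) • (v : V) := fun h v hv =>
      ⟨_, hU ⟨ρ h, h, rfl⟩ v hv, rfl⟩
    let Y : AddSubgroup V :=
      { carrier := {v | ∃ f : s.I → W0, (∀ i, f i ∈ U) ∧ ∑ i, gs i • (f i : V) = v}
        zero_mem' := ⟨fun _ => 0, fun i => zero_mem _, by simp⟩
        add_mem' := fun {v w} ⟨f, hf, hfv⟩ ⟨g, hg, hgw⟩ => ⟨f + g, fun i => add_mem (hf i) (hg i), by
          simp [smul_add, Finset.sum_add_distrib, hfv, hgw]⟩
        neg_mem' := fun {v} ⟨f, hf, hfv⟩ => ⟨-f, fun i => neg_mem (hf i), by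
          simp [smul_neg, Finset.sum_neg_distrib, hfv]⟩ }
    rcases hirr.2 Y (by
      rintro a _ ⟨f, hf, rfl⟩
      choose h hhe using hh a
      choose w hw hwe using fun i => hU' (h i) (f i) (hf i)
      refine ⟨fun j => w (a⁻¹ • j), fun j => hw _, ?_⟩
      rw [Finset.smul_sum]
      refine Fintype.sum_equiv (MulAction.toPerm a⁻¹) _ _ fun j => ?_
      simp only [MulAction.toPerm_apply]
      rw [hwe, ← mul_smul, ← mul_smul, hhe, smul_inv_smul]) with e | e
    · left
      refine (AddSubgroup.eq_bot_iff_forall _).2 fun w hw => ?_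
      have : gs i0 • (w : V) ∈ Y := ⟨fun i => if i = i0 then w else 0, fun i => by
        show (if i = i0 then w else 0) ∈ U
        split <;> [exact hw; exact zero_mem _], by
        rw [Finset.sum_eq_single i0 (fun i _ hi => by simp [hi])
          (fun h => absurd (Finset.mem_univ _) h)]
        simp⟩
      rw [e, AddSubgroup.mem_bot, smul_eq_zero_iff_eq] at this
      exact Subtype.ext this
    · right
      refine eq_top_iff.2 fun w _ => ?_
      obtain ⟨f, hf, hfw⟩ : gs i0 • (w : V) ∈ Y := e ▸ AddSubgroup.mem_top _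
      have := congrFun (s.eq_of_sum_eq (fun i => hgsmem i (f i))
        (g := fun i => if i = i0 then gs i0 • (w : V) else 0) (fun i => by
          show (if i = i0 then gs i0 • (w : V) else 0) ∈ _
          split
          · next h => subst h; exact hgsmem _ w
          · exact zero_mem _) (by rw [hfw]; simp)) i0
      rw [if_pos rfl] at this
      rw [← show f i0 = w from Subtype.ext (MulAction.injective _ this)]
      exact hf i0
  obtain ⟨T, hTreg, hTdist⟩ := exists_five_triples (p := p)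
    (fun w : W0 => Subtype.ext (by simpa using hV (w : V)))
    (hlin ρ.range W0 hirr0.isCR hWlt)
  set φ := MulAction.toPermHom A s.I with hφ
  haveI := isSolvable_range φ
  haveI : MulAction.IsPreprimitive φ.range s.I :=
    MulAction.IsPreprimitive.of_surjective
      (f := (⟨id, fun a x => rfl⟩ : s.I →ₑ[φ.rangeRestrict] s.I)) Function.surjective_id
  obtain ⟨c, hc⟩ := colGood_five (G := φ.range) (Ω := s.I) inferInstance
  let X : Fin 3 → V := fun t => ∑ i, gs i • (T (c i) t : V)
  refine ⟨X 0, X 1, X 2, fun a e1 e2 e3 => ?_⟩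
  have hX : ∀ t, a • X t = X t := fun t => by fin_cases t <;> assumption
  choose h hhe using hh a
  have key : ∀ i t, (⟨ρ (h i), h i, rfl⟩ : ρ.range) • T (c i) t = T (c (a • i)) t := by
    intro i t
    have e := hX t
    simp only [X] at e
    rw [Finset.smul_sum, Fintype.sum_equiv (MulAction.toPerm a)
      (fun j => a • gs j • (T (c j) t : V))
      (fun j => a • gs (a⁻¹ • j) • (T (c (a⁻¹ • j)) t : V)) (fun j => by simp)] at e
    have h1 := congrFun (s.eq_of_sum_eq (fun j => by
      have h := s.maps a (a⁻¹ • j) _ (hgsmem (a⁻¹ • j) (T (c (a⁻¹ • j)) t))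
      rwa [smul_inv_smul] at h) (fun j => hgsmem j (T (c j) t)) e) (a • i)
    simp only [inv_smul_smul] at h1
    refine Subtype.ext (MulAction.injective (gs (a • i)) ?_)
    show gs (a • i) • ((h i : A) • (T (c i) t : V)) = gs (a • i) • (T (c (a • i)) t : V)
    rw [← h1, ← mul_smul, ← hhe i, mul_smul]
  have hcol : ∀ i, c (a • i) = c i := fun i => (hTdist _ _ _ (key i)).symm
  have hfix : ∀ i, a • i = i := fun i =>
    Equiv.congr_fun (congrArg Subtype.val (hc ⟨φ a, a, rfl⟩ fun j => hcol j)) i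
  refine FaithfulSMul.eq_of_smul_eq_smul (α := V) fun v => ?_
  obtain ⟨f, hf, rfl⟩ := s.exists_sum v
  rw [one_smul, Finset.smul_sum]
  refine Finset.sum_congr rfl fun i _ => ?_
  have h1 := congrArg Subtype.val (hTreg (c i) _ (fun t => by rw [key i t, hcol i]))
  have h2 : ((h i : A)) • ((gs i)⁻¹ • f i) = (gs i)⁻¹ • f i :=
    congrArg (fun z : (AddMonoid.End W0)ˣ =>
      (((z : AddMonoid.End W0) ⟨_, hback i _ (hf i)⟩ : W0) : V)) h1
  calc a • f i = (a * gs i) • ((gs i)⁻¹ • f i) := by rw [mul_smul, smul_inv_smul]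
    _ = gs (a • i) • ((h i : A) • ((gs i)⁻¹ • f i)) := by rw [hhe i, mul_smul]
    _ = f i := by rw [h2, hfix i, smul_inv_smul]

end CfsgLib.Char.BaseThree
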