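import Cfsg.Agent.Lib.Char.BaseThree.Pairing
import Cfsg.Agent.Lib.Char.BaseThree.Heisenberg
import Cfsg.Agent.Lib.Char.BaseThree.Reduce
import Cfsg.Agent.Lib.Char.CoprimeBase.Tensor

/-!
# A reducible Heisenberg type normal subgroup: three vectors from the tensor decomposition
-/

set_option autoImplicit false
set_option linter.unusedSectionVars false
set_option linter.style.haveILetI false

namespace CfsgLib.Char.BaseThree

open CfsgLib.Char.CoprimeBase CfsgLib.Char.OddBase

universe u

variable {K : Type u} [Field K]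

section Frames

variable {W : Type u} [AddCommGroup W] [Module K W] [Module.Finite K W]

theorem two_le_finrank (h : ∀ a : W, ∃ b : W, b ∉ K ∙ a) : 2 ≤ Module.finrank K W := by
  by_contra hc
  obtain ⟨v, hv⟩ := finrank_le_one_iff.1 (show Module.finrank K W ≤ 1 by omega)
  obtain ⟨b, hb⟩ := h v
  obtain ⟨c, rfl⟩ := hv b
  exact hb (Submodule.smul_mem _ c (Submodule.mem_span_singleton_self v))

/-- An independent family can be extended to catch a further vector. -/
theorem exists_extend {n : ℕ} {v : Fin n → W} (hv : LinearIndependent K v)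
    (hn : n < Module.finrank K W) (t : W) :
    ∃ w, LinearIndependent K (Fin.snoc v w : Fin (n + 1) → W) ∧
      t ∈ Submodule.span K (Set.range (Fin.snoc v w : Fin (n + 1) → W)) ∧
      ∀ s ∈ Submodule.span K (Set.range v),
        s ∈ Submodule.span K (Set.range (Fin.snoc v w : Fin (n + 1) → W)) := by
  have hmono : ∀ w, ∀ s ∈ Submodule.span K (Set.range v),
      s ∈ Submodule.span K (Set.range (Fin.snoc v w : Fin (n + 1) → W)) := fun w s hs =>
    Submodule.span_mono (by rintro _ ⟨i, rfl⟩; exact ⟨i.castSucc, Fin.snoc_castSucc _ _ _⟩) hs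
  by_cases ht : t ∈ Submodule.span K (Set.range v)
  · obtain ⟨w, hw⟩ : ∃ w, w ∉ Submodule.span K (Set.range v) := by
      by_contra hc
      push Not at hc
      have h1 := finrank_span_eq_card hv
      rw [Submodule.eq_top_iff'.2 hc, finrank_top, Fintype.card_fin] at h1
      omega
    exact ⟨w, linearIndependent_finSnoc.2 ⟨hv, hw⟩, hmono w t ht, hmono w⟩
  · exact ⟨t, linearIndependent_finSnoc.2 ⟨hv, ht⟩,
      Submodule.subset_span ⟨Fin.last n, Fin.snoc_last _ _⟩, hmono t⟩

/-- Three independent vectors spanning three given ones. -/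
theorem exists_frame_three (hd : 3 ≤ Module.finrank K W) (x : Fin 3 → W) :
    ∃ a b c : W, LinearIndependent K ![a, b, c] ∧
      ∀ i, x i ∈ Submodule.span K (Set.range ![a, b, c]) := by
  obtain ⟨a, ha, hxa, -⟩ := exists_extend (K := K) (v := (![] : Fin 0 → W))
    linearIndependent_empty_type (by omega) (x 0)
  obtain ⟨b, hb, hxb, hab⟩ := exists_extend ha (by omega) (x 1)
  obtain ⟨c, hc, hxc, hbc⟩ := exists_extend hb (by omega) (x 2)
  have e : (Fin.snoc (Fin.snoc (Fin.snoc (![] : Fin 0 → W) a) b) c : Fin 3 → W) = ![a, b, c] := by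
    funext i; fin_cases i <;> rfl
  rw [e] at hc hxc hbc
  refine ⟨a, b, c, hc, fun i => ?_⟩
  fin_cases i
  · exact hbc _ (hab _ hxa)
  · exact hbc _ hxb
  · exact hxc

/-- A basis of a plane. -/
theorem exists_frame_two (hd : Module.finrank K W = 2) :
    ∃ a b : W, LinearIndependent K ![a, b] ∧ ∀ x, x ∈ Submodule.span K (Set.range ![a, b]) := by
  let β := Module.finBasisOfFinrankEq K W hd
  have e : ⇑β = ![β 0, β 1] := by funext i; fin_cases i <;> rfl
  refine ⟨β 0, β 1, e ▸ β.linearIndependent, fun x => ?_⟩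
  rw [← e, β.span_eq]
  trivial

theorem smul_of_mem_span {g : W →+ W} {mu : K} (hlin : ∀ (k : K) (w : W), g (k • w) = k • g w)
    {ι : Type} {v : ι → W} (hv : ∀ i, g (v i) = mu • v i) {x : W}
    (hx : x ∈ Submodule.span K (Set.range v)) : g x = mu • x := by
  induction hx using Submodule.span_induction with
  | mem y hy => obtain ⟨i, rfl⟩ := hy; exact hv i
  | zero => rw [map_zero, smul_zero]
  | add _ _ _ _ h1 h2 => rw [map_add, h1, h2, smul_add]
  | smul k y _ h => rw [hlin, h, smul_comm]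

end Frames

section Vectors

variable {T U V : Type u} [AddCommGroup T] [Module K T] [AddCommGroup U] [Module K U]
  [AddCommGroup V] [Module K V] [Module.Finite K T] [Module.Finite K U]

/-- A plane and a space of dimension at least three. -/
theorem exists_vectors_two_three [Finite K] (P : Pairing K T U V) (hT : Module.finrank K T = 2)
    (hU : 3 ≤ Module.finrank K U) {ω : K} (hω0 : ω ≠ 0)
    (hω : ∀ σ : K →+* K, σ ω = ω → ∀ k, σ k = k) (xT : Fin 3 → T) (xU : Fin 3 → U) :
    ∃ v1 v2 v3 : V, ∀ (σ : K →+* K) (s : P.Sym σ), s.g v1 = v1 → s.g v2 = v2 → s.g v3 = v3 →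
      (∀ k, σ k = k) ∧ ∃ lam mu : K, lam * mu = 1 ∧ (∀ i, s.gT (xT i) = lam • xT i) ∧
        ∀ i, s.gU (xU i) = mu • xU i := by
  obtain ⟨f, g, hfg, hspT⟩ := exists_frame_two hT
  obtain ⟨a, b, c, habc, hspU⟩ := exists_frame_three hU xU
  refine ⟨P.B f a + P.B g b, ω • P.B f a, P.B f c + P.B g a, fun σ s h1 h2 h3 => ?_⟩
  obtain ⟨hσ, lam, mu, hlm, ha, hb, hc, hf, hg⟩ := s.two_three hfg habc hω0 h1 h2 h3
  have hid := hω σ hσ
  refine ⟨hid, lam, mu, hlm, fun i => smul_of_mem_span (fun k w => by rw [s.smulT, hid]) ?_ (hspT _),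
    fun i => smul_of_mem_span (fun k w => by rw [s.smulU, hid]) ?_ (hspU i)⟩
  · intro j; fin_cases j <;> assumption
  · intro j; fin_cases j <;> assumption

/-- Three vectors of the product remembering three vectors of each factor. -/
theorem exists_vectors [Finite K] (P : Pairing K T U V) (hT : 2 ≤ Module.finrank K T)
    (hU : 2 ≤ Module.finrank K U) {ω : K} (hω0 : ω ≠ 0)
    (hω : ∀ σ : K →+* K, σ ω = ω → ∀ k, σ k = k) (xT : Fin 3 → T) (xU : Fin 3 → U) :
    ∃ v1 v2 v3 : V, ∀ (σ : K →+* K) (s : P.Sym σ), s.g v1 = v1 → s.g v2 = v2 → s.g v3 = v3 →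
      (∀ k, σ k = k) ∧ ∃ lam mu : K, lam * mu = 1 ∧ (∀ i, s.gT (xT i) = lam • xT i) ∧
        ∀ i, s.gU (xU i) = mu • xU i := by
  rcases hT.lt_or_eq with hT3 | hT2 <;> rcases hU.lt_or_eq with hU3 | hU2
  · obtain ⟨f, g, h, hfgh, hspT⟩ := exists_frame_three hT3 xT
    obtain ⟨a, b, c, habc, hspU⟩ := exists_frame_three hU3 xU
    refine ⟨P.B f a + P.B g b + P.B h c, ω • P.B f a, P.B g a + P.B h b + P.B f c,
      fun σ s h1 h2 h3 => ?_⟩
    obtain ⟨hσ, lam, mu, hlm, ha, hb, hc, hf, hg, hh⟩ := s.three_three hfgh habc hω0 h1 h2 h3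
    have hid := hω σ hσ
    refine ⟨hid, lam, mu, hlm,
      fun i => smul_of_mem_span (fun k w => by rw [s.smulT, hid]) ?_ (hspT i),
      fun i => smul_of_mem_span (fun k w => by rw [s.smulU, hid]) ?_ (hspU i)⟩
    · intro j; fin_cases j <;> assumption
    · intro j; fin_cases j <;> assumption
  · obtain ⟨v1, v2, v3, h⟩ := exists_vectors_two_three P.flip hU2.symm hT3 hω0 hω xU xT
    refine ⟨v1, v2, v3, fun σ s h1 h2 h3 => ?_⟩
    obtain ⟨hid, mu, lam, hml, hU', hT'⟩ := h σ s.flip h1 h2 h3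
    exact ⟨hid, lam, mu, (mul_comm _ _).trans hml, hT', hU'⟩
  · exact exists_vectors_two_three P hT2.symm hU3 hω0 hω xT xU
  · obtain ⟨f, g, hfg, hspT⟩ := exists_frame_two hT2.symm
    obtain ⟨a, b, hab, hspU⟩ := exists_frame_two hU2.symm
    refine ⟨P.B f a + P.B g b, ω • P.B f a, P.B f b, fun σ s h1 h2 h3 => ?_⟩
    obtain ⟨hσ, lam, mu, hlm, ha, hb, hf, hg⟩ := s.two_two hfg hab hω0 h1 h2 h3
    have hid := hω σ hσ
    refine ⟨hid, lam, mu, hlm,
      fun i => smul_of_mem_span (fun k w => by rw [s.smulT, hid]) ?_ (hspT _),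
      fun i => smul_of_mem_span (fun k w => by rw [s.smulU, hid]) ?_ (hspU _)⟩
    · intro j; fin_cases j <;> assumption
    · intro j; fin_cases j <;> assumption

end Vectors

variable {V : Type u} [AddCommGroup V] [Module K V] [Finite V]

/-- The pairing of `homE` and an irreducible subspace. -/
theorem exists_pairing {E : Subgroup (V ≃ₗ[K] V)} {U : Submodule K V} (hE : Heis E)
    (hU : EIrr E U) :
    ∃ P : Pairing K (homE E U hU.2.1) U V,
      ∀ (f : homE E U hU.2.1) (u : U), P.B f u = (f : U →ₗ[K] V) u := by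
  classical
  choose L hL hLU using (exists_spanAlg_eq hE hU).2
  have huniq : ∀ {r s : Module.End K V}, r ∈ spanAlg hE → s ∈ spanAlg hE →
      (∀ u : U, r u = s u) → r = s := fun hr hs h =>
    spanAlg_ext hE hU.2.1 hU.1 hr hs fun u hu => h ⟨u, hu⟩
  have hleft : ∀ φ : U →ₗ[K] K, ∃ M : V →ₗ[K] homE E U hU.2.1,
      ∀ (f : homE E U hU.2.1) (u : U), M ((f : U →ₗ[K] V) u) = φ u • f := by
    intro φ
    let F : V → (U →ₗ[K] V) := fun v =>
      { toFun := fun w => L (φ.smulRight w) v
        map_add' := fun x y => by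
          rw [huniq (hL _) (add_mem (hL (φ.smulRight x)) (hL (φ.smulRight y))) fun u => by
            rw [LinearMap.add_apply, hLU, hLU, hLU]; simp]
          rfl
        map_smul' := fun c x => by
          rw [huniq (hL _) (Subalgebra.smul_mem _ (hL (φ.smulRight x)) c) fun u => by
            rw [LinearMap.smul_apply, hLU, hLU]
            simp [smul_smul, mul_comm]]
          rfl }
    have hF : ∀ v, F v ∈ homE E U hU.2.1 := fun v d hd w => by
      show L (φ.smulRight _) v = d (L (φ.smulRight w) v)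
      rw [huniq (hL _) (mul_mem (mem_spanAlg hE hd) (hL (φ.smulRight w))) fun u => by
        rw [Module.End.mul_apply, hLU, hLU]
        simp [LinearEquiv.map_smul]]
      rfl
    refine ⟨{ toFun := fun v => ⟨F v, hF v⟩
              map_add' := fun x y => Subtype.ext (LinearMap.ext fun w => map_add (L _) x y)
              map_smul' := fun c x => Subtype.ext (LinearMap.ext fun w => map_smul (L _) c x) },
      fun f u => Subtype.ext (LinearMap.ext fun w => ?_)⟩
    show L (φ.smulRight w) ((f : U →ₗ[K] V) u) = φ u • (f : U →ₗ[K] V) w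
    rw [← spanAlg_commute hE (f : U →ₗ[K] V) hU.2.1 f.2 (hL _) u, ← map_smul]
    exact congrArg _ (Subtype.ext (hLU _ u))
  choose M hM using hleft
  haveI : Module.Finite K U := Module.Finite.of_finite
  let bb := Module.finBasis K U
  exact ⟨{
    B := (homE E U hU.2.1).subtype
    left := fun φ => ⟨M φ, hM φ⟩
    right := fun ψ => ⟨∑ i, (ψ.comp (M (bb.coord i))).smulRight (bb i), fun f u => by
      rw [LinearMap.sum_apply]
      simp only [LinearMap.smulRight_apply, LinearMap.comp_apply, Submodule.subtype_apply, hM,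
        map_smul, smul_eq_mul]
      rw [Finset.sum_congr rfl fun i _ => show (bb.coord i u * ψ f) • bb i =
        ψ f • (bb.repr u i • bb i) by rw [mul_comm, mul_smul]; rfl, ← Finset.smul_sum,
        bb.sum_repr u]⟩ }, fun f u => rfl⟩

/-- A group with a reducible normal Heisenberg type subgroup has a base of size three that also
rigidifies the field. -/
theorem triple_tensor [Finite K] {ω : K} (hω0 : ω ≠ 0)
    (hω : ∀ σ : K →+* K, σ ω = ω → ∀ k, σ k = k) (G : Subgroup (V ≃ₗ[K] V))
    [Group.IsSolvable G] (hGcr : IsCR G V) (hscal : ∀ c : Kˣ, scal c ∈ G)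
    (E : Subgroup (V ≃ₗ[K] V)) (hE : Heis E) (hEG : E ≤ G)
    (hnorm : ∀ g ∈ G, ∀ d ∈ E, g * d * g⁻¹ ∈ E) (hns : ∃ d ∈ E, d ∉ scalars K V)
    (hred : ∃ U : Submodule K V, EInv E U ∧ U ≠ ⊥ ∧ U ≠ ⊤) (hlin : SolBelow.{u} (Nat.card V)) :
    ∃ x y z : V, (∀ (σ : K →+* K) (g : V →+ V), Function.Injective g → SemiNorm E σ g →
        g x = x → g y = y → g z = z → ∀ k, σ k = k) ∧
      ∀ g ∈ G, g x = x → g y = y → g z = z → g = 1 := by
  classical
  obtain ⟨Ur, hUr, hUr0, hUr1⟩ := hred
  obtain ⟨U, hUle, hU⟩ := exists_eIrr hUr0 hUr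
  have hUtop : U ≠ ⊤ := fun e => hUr1 (top_le_iff.1 (e ▸ hUle))
  haveI : Nontrivial U := (Submodule.nontrivial_iff_ne_bot).2 hU.1
  haveI : Nontrivial V := Subtype.val_injective.nontrivial (α := U)
  set T := homE E U hU.2.1 with hT
  haveI : Finite (U →ₗ[K] V) :=
    Finite.of_injective (fun f : U →ₗ[K] V => (⇑f : U → V)) DFunLike.coe_injective
  -- dimensions
  have hdimU : ∀ a : U, ∃ b : U, b ∉ K ∙ a := by
    intro a
    by_contra hc
    push Not at hc
    obtain ⟨d, hd, hds⟩ := hns
    obtain ⟨u0, hu0⟩ := exists_ne (0 : U)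
    have ha : a ≠ 0 := fun e => hu0 (by simpa [e] using hc u0)
    obtain ⟨c, hc'⟩ := Submodule.mem_span_singleton.1 (hc ⟨d a, hU.2.1 d hd a a.2⟩)
    have hcU : ∀ u ∈ U, d u = c • u := by
      intro u hu
      obtain ⟨k, hk⟩ := Submodule.mem_span_singleton.1 (hc ⟨u, hu⟩)
      have h1 : u = k • (a : V) := (congrArg Subtype.val hk).symm
      have h2 : c • (a : V) = d a := congrArg Subtype.val hc'
      rw [h1, LinearEquiv.map_smul, ← h2, smul_comm]
    have h0 := hE.indep hU.2.1 hU.1 ![d, 1] (fun i => by fin_cases i <;> simp [hd])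
      (fun i j hij h => by
        refine hds ?_
        fin_cases i <;> fin_cases j <;> first
          | exact absurd rfl hij
          | simpa [Congr] using h
          | simpa [Congr] using inv_mem h)
      ![1, -c] (fun u hu => by simp [Fin.sum_univ_two, hcU u hu]) 0
    simp at h0
  have hTinj : ∀ f ∈ T, f ≠ 0 → Function.Injective f := fun f hf hf0 => homE_injective hU hf hf0
  have hsum := fun (f g : U →ₗ[K] V) (hf : f ∈ T) (hg : g ∈ T) (a b : U) (h : f a + g b = 0)
    (φ : U →ₗ[K] K) => homE_sum_zero hE hU hf hg h φ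
  have hspan : ∀ v : V, v ≠ 0 → ∃ f ∈ T, f ≠ 0 := by
    intro v hv
    obtain ⟨n, f, b, hf, hs, -⟩ := exists_homE_sum hE hU v
    by_contra h
    push Not at h
    refine hv (hs.trans (Finset.sum_eq_zero fun i _ => ?_))
    rw [h _ (hf i), LinearMap.zero_apply]
  haveI : Nontrivial T := by
    obtain ⟨v, hv⟩ := exists_ne (0 : V)
    obtain ⟨f, hf, hf0⟩ := hspan v hv
    exact ⟨⟨⟨f, hf⟩, 0, fun e => hf0 (congrArg Subtype.val e)⟩⟩
  have hdimT : ∀ a : T, ∃ b : T, b ∉ K ∙ a := by
    intro a
    by_contra hc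
    push Not at hc
    obtain ⟨f0, hf0⟩ := exists_ne (0 : T)
    have ha : a ≠ 0 := fun e => hf0 (by simpa [e] using hc f0)
    have hrange : LinearMap.range (a : U →ₗ[K] V) = ⊤ := by
      refine Submodule.eq_top_iff'.2 fun v => ?_
      obtain ⟨n, f, b, hf, hs, -⟩ := exists_homE_sum hE hU v
      rw [hs]
      refine sum_mem fun i _ => ?_
      obtain ⟨c, hc'⟩ := Submodule.mem_span_singleton.1 (hc ⟨f i, hf i⟩)
      refine ⟨c • b i, ?_⟩
      rw [map_smul]
      exact LinearMap.congr_fun (congrArg Subtype.val hc') (b i)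
    have hainj := hTinj a a.2 (fun e => ha (Subtype.ext e))
    let S : Submodule K V := ((Ur.comap (a : U →ₗ[K] V))).map U.subtype
    rcases hU.2.2 S (Submodule.map_subtype_le _ _) (by
      rintro d hd _ ⟨u, hu, rfl⟩
      exact ⟨⟨d u, hU.2.1 d hd u u.2⟩, by
        show (a : U →ₗ[K] V) _ ∈ Ur
        rw [a.2 d hd u]
        exact hUr d hd _ hu, rfl⟩) with e | e
    · obtain ⟨v, hv, hv0⟩ := (Submodule.ne_bot_iff _).1 hUr0
      obtain ⟨u, rfl⟩ : v ∈ LinearMap.range (a : U →ₗ[K] V) := by rw [hrange]; trivial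
      have : (u : V) ∈ S := ⟨u, hv, rfl⟩
      rw [e, Submodule.mem_bot] at this
      exact hv0 (by rw [show u = 0 from Subtype.ext this, map_zero])
    · refine hUr1 (Submodule.eq_top_iff'.2 fun v => ?_)
      obtain ⟨u, rfl⟩ : v ∈ LinearMap.range (a : U →ₗ[K] V) := by rw [hrange]; trivial
      obtain ⟨w, hw, hwu⟩ : (u : V) ∈ S := by rw [e]; exact u.2
      rw [← show w = u from Subtype.ext hwu]
      exact hw
  -- the pairs
  let P : Subgroup ((V ≃ₗ[K] V) × (U ≃ₗ[K] U)) :=
    { carrier := {q | q.1 ∈ G ∧ ∀ d (hd : d ∈ E) (u : U),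
        ((q.2 ⟨d u, hU.2.1 d hd u u.2⟩ : U) : V) = (q.1 * d * q.1⁻¹) (q.2 u)}
      one_mem' := ⟨one_mem G, fun d hd u => by simp⟩
      mul_mem' := fun {q r} hq hr => ⟨mul_mem hq.1 hr.1, fun d hd u => by
        have hd' := hnorm _ hr.1 d hd
        have h1 : r.2 ⟨d u, hU.2.1 d hd u u.2⟩ =
            ⟨(r.1 * d * r.1⁻¹) (r.2 u), hU.2.1 _ hd' _ (r.2 u).2⟩ := Subtype.ext (hr.2 d hd u)
        show ((q.2 (r.2 ⟨d u, hU.2.1 d hd u u.2⟩) : U) : V) = _
        rw [h1, hq.2 _ hd' (r.2 u)]
        refine LinearEquiv.congr_fun ?_ _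
        simp only [Prod.fst_mul]
        group⟩
      inv_mem' := fun {q} hq => ⟨inv_mem hq.1, fun d hd u => by
        have hd' : q.1⁻¹ * d * q.1 ∈ E := by
          have := hnorm _ (inv_mem hq.1) d hd
          rwa [inv_inv] at this
        have h1 : q.2 ⟨(q.1⁻¹ * d * q.1) (q.2⁻¹ u), hU.2.1 _ hd' _ (q.2⁻¹ u).2⟩ =
            (⟨d u, hU.2.1 d hd u u.2⟩ : U) := Subtype.ext (by
          rw [hq.2 _ hd' (q.2⁻¹ u), show q.1 * (q.1⁻¹ * d * q.1) * q.1⁻¹ = d by group]
          congr 2
          exact LinearEquiv.apply_symm_apply q.2 u)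
        show ((q.2⁻¹ ⟨d u, hU.2.1 d hd u u.2⟩ : U) : V) = _
        rw [← h1, show q.2⁻¹ (q.2 ⟨(q.1⁻¹ * d * q.1) (q.2⁻¹ u), hU.2.1 _ hd' _ (q.2⁻¹ u).2⟩) =
          ⟨(q.1⁻¹ * d * q.1) (q.2⁻¹ u), hU.2.1 _ hd' _ (q.2⁻¹ u).2⟩ from
          LinearEquiv.symm_apply_apply q.2 _]
        simp only [Prod.fst_inv, Prod.snd_inv, inv_inv]⟩ }
  have hsurj : ∀ g ∈ G, ∃ g1 : U ≃ₗ[K] U, (g, g1) ∈ P := by
    intro g hg
    have hgU : EIrr E (U.map (g : V →ₗ[K] V)) := by
      refine ⟨fun e => hU.1 ?_, ?_, fun W hW hWi => ?_⟩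
      · exact (Submodule.map_eq_bot_iff (p := U) (e := g)).1 e
      · rintro d hd _ ⟨u, hu, rfl⟩
        have hd' : g⁻¹ * d * g ∈ E := by
          have := hnorm _ (inv_mem hg) d hd
          rwa [inv_inv] at this
        exact ⟨_, hU.2.1 _ hd' u hu, LinearEquiv.apply_symm_apply g _⟩
      · rcases hU.2.2 (W.comap (g : V →ₗ[K] V)) (fun u hu => by
            obtain ⟨w, hw, e⟩ := hW hu
            rwa [← g.injective e])
          (fun d hd u hu => by
            show g (d u) ∈ W
            have := hWi _ (hnorm g hg d hd) (g u) hu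
            rwa [LinearEquiv.mul_apply, LinearEquiv.mul_apply,
              show g⁻¹ (g u) = u from LinearEquiv.symm_apply_apply g u] at this) with e | e
        · left
          rw [Submodule.eq_bot_iff] at e ⊢
          intro w hw
          obtain ⟨u, rfl⟩ := g.surjective w
          rw [e u hw, map_zero]
        · right
          refine le_antisymm hW ?_
          rintro _ ⟨u, hu, rfl⟩
          exact (show u ∈ W.comap (g : V →ₗ[K] V) by rw [e]; exact hu)
    obtain ⟨f, hf, hfinj, hfr⟩ := exists_homE_range hE hU hgU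
    let ef : U ≃ₗ[K] U.map (g : V →ₗ[K] V) :=
      (LinearEquiv.ofInjective f hfinj).trans (LinearEquiv.ofEq _ _ hfr)
    let g1 : U ≃ₗ[K] U := (g.submoduleMap U).trans ef.symm
    have hg1 : ∀ u : U, f (g1 u) = g (u : V) := fun u => by
      have h1 : ef (g1 u) = g.submoduleMap U u := ef.apply_symm_apply _
      exact congrArg Subtype.val h1
    refine ⟨g1, hg, fun d hd u => ?_⟩
    have hd' := hnorm g hg d hd
    have h1 : f (g1 ⟨d u, hU.2.1 d hd u u.2⟩) = f ⟨(g * d * g⁻¹) (g1 u), hU.2.1 _ hd' _ (g1 u).2⟩ := by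
      rw [hg1, hf _ hd' (g1 u), hg1]
      simp only [LinearEquiv.mul_apply]
      rw [show g⁻¹ (g (u : V)) = (u : V) from LinearEquiv.symm_apply_apply g u]
    exact congrArg Subtype.val (hfinj h1)
  -- the group of pairs is solvable
  have hscalP : ∀ c : Kˣ, ((1 : V ≃ₗ[K] V), (scal c : U ≃ₗ[K] U)) ∈ P := fun c =>
    ⟨one_mem G, fun d hd u => by simp [scal_apply, LinearEquiv.map_smul]⟩
  let π : P →* G :=
    { toFun := fun q => ⟨q.1.1, q.2.1⟩, map_one' := rfl, map_mul' := fun _ _ => rfl }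
  let ι : Kˣ →* P :=
    { toFun := fun c => ⟨_, hscalP c⟩
      map_one' := Subtype.ext (Prod.ext rfl (map_one scal))
      map_mul' := fun a b => Subtype.ext (Prod.ext (one_mul _).symm (map_mul scal a b)) }
  have hker : π.ker ≤ ι.range := by
    rintro ⟨⟨g, g1⟩, hq⟩ hk
    have hg1 : g = 1 := congrArg Subtype.val (MonoidHom.mem_ker.1 hk)
    subst hg1
    obtain ⟨c, hc⟩ := (exists_spanAlg_eq hE hU).1 (g1 : U →ₗ[K] U) fun d hd u => by
      simpa using hq.2 d hd u
    have hc0 : c ≠ 0 := fun e => by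
      obtain ⟨u0, hu0⟩ := exists_ne (0 : U)
      refine hu0 (g1.injective ?_)
      rw [map_zero]
      exact (hc u0).trans (by rw [e, zero_smul])
    exact ⟨Units.mk0 c hc0, Subtype.ext (Prod.ext rfl (LinearEquiv.ext fun u => (hc u).symm))⟩
  haveI : Group.IsSolvable P := Group.isSolvable_of_ker_le_range ι π hker
  -- the two actions
  have hact : ∀ (q : P) (f : T), ((q.1.1 : V →ₗ[K] V).comp
      ((f : U →ₗ[K] V).comp (q.1.2.symm : U →ₗ[K] U))) ∈ T := by
    intro q f d hd u
    have h1 := (P.inv_mem q.2).2 d hd u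
    have hd' : q.1.1⁻¹ * d * q.1.1 ∈ E := by
      have := hnorm _ (inv_mem q.2.1) d hd
      rwa [inv_inv] at this
    have h2 : q.1.2.symm ⟨d u, hU.2.1 d hd u u.2⟩ =
        ⟨(q.1.1⁻¹ * d * q.1.1) (q.1.2.symm u), hU.2.1 _ hd' _ (q.1.2.symm u).2⟩ := Subtype.ext (by
      have := h1
      simp only [Prod.fst_inv, Prod.snd_inv, inv_inv] at this
      exact this)
    simp only [LinearMap.comp_apply, LinearEquiv.coe_coe]
    rw [h2, f.2 _ hd']
    simp only [LinearEquiv.mul_apply]
    exact LinearEquiv.apply_symm_apply q.1.1 _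
  let θ : P → (T →ₗ[K] T) := fun q =>
    { toFun := fun f => ⟨_, hact q f⟩
      map_add' := fun f g => Subtype.ext (by
        simp only [Submodule.coe_add, LinearMap.add_comp, LinearMap.comp_add])
      map_smul' := fun c f => Subtype.ext (by
        simp only [Submodule.coe_smul, LinearMap.smul_comp, LinearMap.comp_smul, RingHom.id_apply]) }
  have hθmul : ∀ q r, θ (q * r) = θ q * θ r := fun q r =>
    LinearMap.ext fun f => Subtype.ext (LinearMap.ext fun u => rfl)
  have hθone : θ 1 = 1 := LinearMap.ext fun f => Subtype.ext (LinearMap.ext fun u => rfl)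
  let θhom : P →* (T →ₗ[K] T) := { toFun := θ, map_one' := hθone, map_mul' := hθmul }
  let θ2 : P →* (T ≃ₗ[K] T) :=
    (LinearMap.GeneralLinearGroup.generalLinearEquiv K T).toMonoidHom.comp θhom.toHomUnits
  have hθ2 : ∀ (q : P) (f : T), ((θ2 q f : T) : U →ₗ[K] V) =
      (q.1.1 : V →ₗ[K] V).comp ((f : U →ₗ[K] V).comp (q.1.2.symm : U →ₗ[K] U)) := fun q f => rfl
  let θ1 : P →* (U ≃ₗ[K] U) := (MonoidHom.snd _ _).comp P.subtype
  haveI := isSolvable_range θ1
  haveI := isSolvable_range θ2
  have hcardU : Nat.card U < Nat.card V := by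
    refine lt_of_le_of_ne (Nat.card_le_card_of_injective _ Subtype.val_injective) fun e => hUtop ?_
    have := Subtype.val_injective (p := fun x => x ∈ U) |>.bijective_of_nat_card_le e.ge
    exact Submodule.eq_top_iff'.2 fun v => by obtain ⟨u, rfl⟩ := this.2 v; exact u.2
  have hcardT : Nat.card T < Nat.card V := by
    obtain ⟨a, ha⟩ := exists_ne (0 : U)
    obtain ⟨b, hb⟩ := hdimU a
    obtain ⟨φ, hφb, hφa⟩ := exists_dual_pair (K := K) hb
    obtain ⟨ψ, hψ⟩ := exists_dual_one (K := K) ha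
    have hle : Nat.card T * Nat.card T ≤ Nat.card V := by
      rw [← Nat.card_prod]
      refine Nat.card_le_card_of_injective
        (fun q => (q.1 : U →ₗ[K] V) a + (q.2 : U →ₗ[K] V) b) fun q r e => ?_
      have e' : ((q.1 - r.1 : T) : U →ₗ[K] V) a + ((q.2 - r.2 : T) : U →ₗ[K] V) b = 0 := by
        simp only [Submodule.coe_sub, LinearMap.sub_apply]
        rw [sub_add_sub_comm, sub_eq_zero]
        exact e
      have h2 := hsum _ _ (q.1 - r.1).2 (q.2 - r.2).2 a b e' φ
      rw [hφa, hφb, zero_smul, one_smul, zero_add] at h2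
      have h3 : q.2 - r.2 = 0 := Subtype.ext h2
      have h1 := hsum _ _ (q.1 - r.1).2 (q.2 - r.2).2 a b e' ψ
      rw [h3, hψ, one_smul, Submodule.coe_zero, smul_zero, add_zero] at h1
      exact Prod.ext (sub_eq_zero.1 (Subtype.ext h1)) (sub_eq_zero.1 h3)
    have h2T : 2 ≤ Nat.card T := Finite.one_lt_card
    calc Nat.card T < Nat.card T * Nat.card T := by
          have := Nat.mul_le_mul_right (Nat.card T) h2T
          omega
      _ ≤ Nat.card V := hle
  -- complete reducibility of the two factors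
  obtain ⟨Pr, hPr⟩ := exists_pairing hE hU
  have hgf : ∀ (q : P) (f : T) (u : U), q.1.1 ((f : U →ₗ[K] V) u) =
      ((θ2 q f : T) : U →ₗ[K] V) (q.1.2 u) := fun q f u => by
    rw [hθ2]
    simp
  have hι2 : ∀ (c : Kˣ) (f : T), θ2 (ι c) f = (c : K)⁻¹ • f := fun c f => by
    refine Subtype.ext (LinearMap.ext fun u => ?_)
    have h1 := hgf (ι c) f ((c : K)⁻¹ • u)
    change (f : U →ₗ[K] V) ((c : K)⁻¹ • u) = _ at h1
    rw [show (ι c : P).1.2 ((c : K)⁻¹ • u) = u by
      show (scal c : U ≃ₗ[K] U) ((c : K)⁻¹ • u) = u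
      rw [scal_apply, smul_inv_smul₀ c.ne_zero]] at h1
    rw [← h1, map_smul]
    rfl
  have hcr1 : IsCR θ1.range U := by
    refine IsIrr.isCR ⟨inferInstance, fun X hX => ?_⟩
    let X' : Submodule K V :=
      { carrier := {v | ∃ u ∈ X, (u : V) = v}
        zero_mem' := ⟨0, zero_mem X, rfl⟩
        add_mem' := fun {a b} ⟨u, hu, e⟩ ⟨w, hw, e'⟩ => ⟨u + w, add_mem hu hw, by
          rw [Submodule.coe_add, e, e']⟩
        smul_mem' := fun c v ⟨u, hu, e⟩ => by
          subst e
          by_cases hc : c = 0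
          · exact ⟨0, zero_mem X, by simp [hc]⟩
          · exact ⟨_, hX ⟨θ1 (ι (Units.mk0 c hc)), _, rfl⟩ u hu, rfl⟩ }
    have hX'U : X' ≤ U := by rintro _ ⟨u, -, rfl⟩; exact u.2
    rcases hU.2.2 X' hX'U (by
      rintro d hd _ ⟨u, hu, rfl⟩
      obtain ⟨g1, hq⟩ : ∃ g1 : U ≃ₗ[K] U, (∀ w : U, (g1 w : V) = d w) := by
        let l : U →ₗ[K] U := (d : V →ₗ[K] V).restrict fun w hw => hU.2.1 d hd w hw
        have hl : Function.Injective l := fun a b e =>
          Subtype.ext (d.injective (congrArg Subtype.val e))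
        exact ⟨LinearEquiv.ofBijective l ⟨hl, Finite.injective_iff_surjective.1 hl⟩, fun w => rfl⟩
      have hqP : ((d, g1) : (V ≃ₗ[K] V) × (U ≃ₗ[K] U)) ∈ P := ⟨hEG hd, fun d' hd' w => by
        simp only [hq, LinearEquiv.mul_apply]
        rw [show d⁻¹ (d (w : V)) = (w : V) from LinearEquiv.symm_apply_apply d _]⟩
      exact ⟨g1 u, hX ⟨θ1 ⟨_, hqP⟩, _, rfl⟩ u hu, hq u⟩) with e | e
    · left
      refine (AddSubgroup.eq_bot_iff_forall _).2 fun u hu => ?_
      have : (u : V) ∈ X' := ⟨u, hu, rfl⟩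
      rw [e, Submodule.mem_bot] at this
      exact Subtype.ext this
    · right
      refine eq_top_iff.2 fun u _ => ?_
      obtain ⟨w, hw, hwu⟩ : (u : V) ∈ X' := by rw [e]; exact u.2
      rwa [← show w = u from Subtype.ext hwu]
  have hcr2 : IsCR θ2.range T := by
    intro S hS
    have hSsm : ∀ (c : K) (f : T), f ∈ S → c • f ∈ S := by
      intro c f hf
      by_cases hc : c = 0
      · rw [hc, zero_smul]; exact zero_mem S
      · have := hS ⟨θ2 (ι (Units.mk0 c hc)⁻¹), _, rfl⟩ f hf
        change θ2 (ι (Units.mk0 c hc)⁻¹) f ∈ S at this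
        rwa [hι2, Units.val_inv_eq_inv_val, inv_inv] at this
    let Y : Submodule K V := Submodule.span K {v | ∃ f ∈ S, ∃ u : U, (f : U →ₗ[K] V) u = v}
    have hYinv : ∀ g ∈ G, ∀ v ∈ Y, g v ∈ Y := by
      intro g hg v hv
      obtain ⟨g1, hq⟩ := hsurj g hg
      induction hv using Submodule.span_induction with
      | mem y hy =>
        obtain ⟨f, hf, u, rfl⟩ := hy
        exact Submodule.subset_span ⟨θ2 ⟨_, hq⟩ f, hS ⟨θ2 ⟨_, hq⟩, _, rfl⟩ f hf, g1 u,
          (hgf ⟨_, hq⟩ f u).symm⟩
      | zero => rw [map_zero]; exact zero_mem Y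
      | add _ _ _ _ h1 h2 => rw [map_add]; exact add_mem h1 h2
      | smul c y _ h => rw [LinearEquiv.map_smul]; exact Y.smul_mem c h
    obtain ⟨X, hX, hYX, hYXt⟩ := hGcr Y.toAddSubgroup fun g v hv => hYinv g g.2 v hv
    let X' : Submodule K V :=
      { X with
        smul_mem' := fun c v hv => by
          by_cases hc : c = 0
          · show c • v ∈ X; rw [hc, zero_smul]; exact zero_mem X
          · exact hX ⟨_, hscal (Units.mk0 c hc)⟩ v hv }
    have hcompl : IsCompl Y X' := by
      refine ⟨Submodule.disjoint_def.2 fun v h1 h2 => ?_, codisjoint_iff.2 ?_⟩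
      · have : v ∈ Y.toAddSubgroup ⊓ X := AddSubgroup.mem_inf.2 ⟨h1, h2⟩
        rwa [hYX, AddSubgroup.mem_bot] at this
      · refine Submodule.eq_top_iff'.2 fun v => ?_
        obtain ⟨y, hy, x, hx, rfl⟩ := AddSubgroup.mem_sup.1 (hYXt ▸ AddSubgroup.mem_top v)
        exact Submodule.add_mem_sup hy hx
    let S' : AddSubgroup T :=
      { carrier := {f | ∀ u, (f : U →ₗ[K] V) u ∈ X}
        zero_mem' := fun u => zero_mem X
        add_mem' := fun {a b} ha hb u => add_mem (ha u) (hb u)
        neg_mem' := fun {a} ha u => neg_mem (ha u) }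
    refine ⟨S', ?_, ?_, ?_⟩
    · rintro ⟨_, q, rfl⟩ f hf u
      show ((θ2 q f : T) : U →ₗ[K] V) u ∈ X
      obtain ⟨w, rfl⟩ := q.1.2.surjective u
      rw [← hgf]
      exact hX ⟨_, q.2.1⟩ _ (hf w)
    · refine (AddSubgroup.eq_bot_iff_forall _).2 fun f hf => Subtype.ext (LinearMap.ext fun u => ?_)
      obtain ⟨hf1, hf2⟩ := AddSubgroup.mem_inf.1 hf
      exact Submodule.disjoint_def.1 hcompl.1 _ (Submodule.subset_span ⟨f, hf1, u, rfl⟩) (hf2 u)
    · refine eq_top_iff.2 fun f _ => ?_
      let π : V →ₗ[K] V := Y.subtype.comp (Submodule.projectionOnto Y X' hcompl)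
      have hπY : ∀ v, π v ∈ Y := fun v => (Submodule.projectionOnto Y X' hcompl v).2
      have hπy : ∀ y ∈ Y, π y = y := fun y hy =>
        congrArg Subtype.val (Submodule.projectionOnto_apply_left hcompl ⟨y, hy⟩)
      have hπsub : ∀ v, v - π v ∈ X' := fun v => by
        obtain ⟨y, hy, x, hx, rfl⟩ := Submodule.mem_sup.1
          (hcompl.sup_eq_top ▸ (Submodule.mem_top : v ∈ ⊤))
        have : π x = 0 := by
          show ((Submodule.projectionOnto Y X' hcompl x : Y) : V) = 0
          rw [Submodule.projectionOnto_apply_eq_zero_iff hcompl |>.2 hx]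
          rfl
        rwa [map_add, hπy y hy, this, add_zero, add_sub_cancel_left]
      have hπd : ∀ d ∈ E, ∀ v, π (d v) = d (π v) := by
        intro d hd v
        have h1 : d v = d (π v) + d (v - π v) := by rw [← map_add, add_sub_cancel]
        have hx : d (v - π v) ∈ X' := hX ⟨d, hEG hd⟩ _ (hπsub v)
        have : π (d (v - π v)) = 0 := by
          show ((Submodule.projectionOnto Y X' hcompl _ : Y) : V) = 0
          rw [Submodule.projectionOnto_apply_eq_zero_iff hcompl |>.2 hx]
          rfl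
        rw [h1, map_add, hπy _ (hYinv d (hEG hd) _ (hπY v)), this, add_zero]
      let h : T := ⟨π.comp (f : U →ₗ[K] V), fun d hd u => by
        show π ((f : U →ₗ[K] V) _) = d (π ((f : U →ₗ[K] V) u))
        rw [f.2 d hd u, hπd d hd]⟩
      have hhS : h ∈ S := by
        obtain ⟨u0, hu0⟩ := exists_ne (0 : U)
        obtain ⟨φ, hφ⟩ := exists_dual_one (K := K) hu0
        obtain ⟨M, hM⟩ := Pr.left φ
        have hMY : ∀ y ∈ Y, M y ∈ S := by
          intro y hy
          induction hy using Submodule.span_induction with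
          | mem y hy =>
            obtain ⟨f', hf', u, rfl⟩ := hy
            have := hM f' u
            rw [hPr] at this
            rw [this]
            exact hSsm _ _ hf'
          | zero => rw [map_zero]; exact zero_mem S
          | add _ _ _ _ h1 h2 => rw [map_add]; exact add_mem h1 h2
          | smul c y _ hh => rw [LinearMap.map_smul]; exact hSsm _ _ hh
        have := hM h u0
        rw [hPr, hφ, one_smul] at this
        rw [← this]
        exact hMY _ (hπY _)
      refine AddSubgroup.mem_sup.2 ⟨h, hhS, f - h, fun u => ?_, add_sub_cancel _ _⟩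
      exact hπsub _
  -- triples of the two factors
  haveI : Finite T := Subtype.finite
  obtain ⟨xU, yU, zU, hG1⟩ := hlin θ1.range U hcr1 hcardU
  obtain ⟨xT, yT, zT, hG2⟩ := hlin θ2.range T hcr2 hcardT
  haveI : Module.Finite K U := Module.Finite.of_finite
  haveI : Module.Finite K T := Module.Finite.of_finite
  obtain ⟨v1, v2, v3, hv⟩ := exists_vectors Pr (two_le_finrank hdimT) (two_le_finrank hdimU) hω0 hω
    ![xT, yT, zT] ![xU, yU, zU]
  refine ⟨v1, v2, v3, fun σ g hg hn h1 h2 h3 => ?_, fun g hg h1 h2 h3 => ?_⟩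
  · -- semilinear symmetries
    have hσs : Function.Surjective σ := Finite.injective_iff_surjective.1 σ.injective
    have hgs : Function.Surjective g := Finite.injective_iff_surjective.1 hg
    let gU' : Submodule K V :=
      { U.toAddSubgroup.map g with
        smul_mem' := fun c v ⟨u, hu, e⟩ => by
          obtain ⟨c', rfl⟩ := hσs c
          exact ⟨c' • u, U.smul_mem c' hu, by rw [hn.1, ← e]⟩ }
    choose tr htr htrg using hn.2
    let trE : E → E := fun d => ⟨tr d.1 d.2, htr d.1 d.2⟩
    have htrs : Function.Surjective trE := by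
      refine Finite.injective_iff_surjective.1 fun d d' e => Subtype.ext (LinearEquiv.ext fun v => ?_)
      have e' : tr d.1 d.2 = tr d'.1 d'.2 := congrArg Subtype.val e
      exact hg (by rw [htrg d.1 d.2, htrg d'.1 d'.2, e'])
    have hgU : EIrr E gU' := by
      refine ⟨fun e => hU.1 ?_, ?_, fun W hW hWi => ?_⟩
      · refine (Submodule.eq_bot_iff _).2 fun u hu => hg ?_
        have : g u ∈ gU' := ⟨u, hu, rfl⟩
        rw [e, Submodule.mem_bot] at this
        rw [this, map_zero]
      · rintro e he _ ⟨u, hu, rfl⟩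
        obtain ⟨⟨d, hd⟩, hde⟩ := htrs ⟨e, he⟩
        have hde' : tr d hd = e := congrArg Subtype.val hde
        exact ⟨d u, hU.2.1 d hd u hu, by rw [htrg d hd, hde']⟩
      · let W0 : Submodule K V :=
          { W.toAddSubgroup.comap g with
            smul_mem' := fun c v hv => by
              show g (c • v) ∈ W
              rw [hn.1]
              exact W.smul_mem _ hv }
        rcases hU.2.2 W0 (fun u hu => by
            obtain ⟨w, hw, e⟩ := hW hu
            rwa [← hg e])
          (fun d hd u hu => by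
            show g (d u) ∈ W
            rw [htrg d hd]
            exact hWi _ (htr d hd) _ hu) with e | e
        · left
          rw [Submodule.eq_bot_iff] at e ⊢
          intro w hw
          obtain ⟨u, rfl⟩ := hgs w
          rw [e u hw, map_zero]
        · right
          refine le_antisymm hW ?_
          rintro _ ⟨u, hu, rfl⟩
          exact (show u ∈ W0 by rw [e]; exact hu)
    obtain ⟨f0, hf0, hf0inj, hf0r⟩ := exists_homE_range hE hU hgU
    have hex : ∀ u : U, ∃ w : U, f0 w = g (u : V) := fun u => by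
      have : g (u : V) ∈ LinearMap.range f0 := by rw [hf0r]; exact ⟨u, u.2, rfl⟩
      exact this
    choose g1 hg1 using hex
    let gU : U →+ U := AddMonoidHom.mk' g1 fun x y => hf0inj (by
      rw [hg1, map_add, hg1, hg1, Submodule.coe_add, map_add])
    have hgUsmul : ∀ (k : K) (u : U), gU (k • u) = σ k • gU u := fun k u => hf0inj (by
      show f0 (g1 (k • u)) = f0 (σ k • g1 u)
      rw [hg1, map_smul, hg1, Submodule.coe_smul, hn.1])
    have hgUinj : Function.Injective gU := fun x y e => Subtype.ext (hg (by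
      rw [← hg1 x, ← hg1 y]
      exact congrArg f0 e))
    have hgUsurj : Function.Surjective gU := Finite.injective_iff_surjective.1 hgUinj
    choose inv hinv using hgUsurj
    have hinv' : ∀ u, inv (gU u) = u := fun u => hgUinj (hinv _)
    have hgTmem : ∀ f : T, ∃ h : T, ∀ u, (h : U →ₗ[K] V) (gU u) = g ((f : U →ₗ[K] V) u) := by
      intro f
      refine ⟨⟨{ toFun := fun u => g ((f : U →ₗ[K] V) (inv u))
                 map_add' := fun x y => by
                  rw [show inv (x + y) = inv x + inv y from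
                    hgUinj (by rw [map_add gU, hinv, hinv, hinv]), map_add, map_add]
                 map_smul' := fun c x => by
                  obtain ⟨c', rfl⟩ := hσs c
                  rw [show inv (σ c' • x) = c' • inv x from
                    hgUinj (by rw [hinv, hgUsmul, hinv]), map_smul, hn.1]
                  rfl }, fun e he u => ?_⟩, fun u => ?_⟩
      · obtain ⟨⟨d, hd⟩, hde⟩ := htrs ⟨e, he⟩
        have hde' : tr d hd = e := congrArg Subtype.val hde
        show g ((f : U →ₗ[K] V) (inv _)) = e (g ((f : U →ₗ[K] V) (inv u)))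
        rw [show inv ⟨e u, hU.2.1 e he u u.2⟩ = ⟨d (inv u), hU.2.1 d hd _ (inv u).2⟩ from
          hgUinj (by
            rw [hinv]
            refine hf0inj ?_
            show _ = f0 (g1 _)
            rw [hg1, hf0 e he u, htrg d hd, hde', ← hg1]
            exact congrArg (fun w => e (f0 w)) (hinv u).symm),
          f.2 d hd, htrg d hd, hde']
      · show g ((f : U →ₗ[K] V) (inv (gU u))) = _
        rw [hinv']
    choose gT0 hgT0 using hgTmem
    have hgText : ∀ h h' : T, (∀ u, (h : U →ₗ[K] V) (gU u) = (h' : U →ₗ[K] V) (gU u)) → h = h' :=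
      fun h h' e => Subtype.ext (LinearMap.ext fun w => by rw [← hinv w]; exact e _)
    let gT : T →+ T := AddMonoidHom.mk' gT0 fun x y => hgText _ _ fun u => by
      simp only [Submodule.coe_add, LinearMap.add_apply, hgT0, map_add]
    let s : Pr.Sym σ :=
      { g := g, gT := gT, gU := gU, smul := hn.1
        smulT := fun k f => hgText _ _ fun u => by
          show (gT0 (k • f) : U →ₗ[K] V) (gU u) = ((σ k • gT0 f : T) : U →ₗ[K] V) (gU u)
          simp only [Submodule.coe_smul, LinearMap.smul_apply, hgT0, hn.1]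
        smulU := hgUsmul
        injT := fun x y e => Subtype.ext (LinearMap.ext fun u => hg (by
          rw [← hgT0, ← hgT0]
          exact congrArg (fun h : T => (h : U →ₗ[K] V) (gU u)) e))
        injU := hgUinj
        map := fun f u => by
          rw [hPr, hPr]
          exact (hgT0 f u).symm }
    exact (hv σ s h1 h2 h3).1
  · -- elements of the group
    obtain ⟨g1, hq⟩ := hsurj g hg
    let q : P := ⟨(g, g1), hq⟩
    let s : Pr.Sym (RingHom.id K) :=
      { g := (g : V →ₗ[K] V).toAddMonoidHom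
        gT := (θ2 q : T →ₗ[K] T).toAddMonoidHom
        gU := (g1 : U →ₗ[K] U).toAddMonoidHom
        smul := fun k v => LinearEquiv.map_smul g k v
        smulT := fun k f => LinearEquiv.map_smul (θ2 q) k f
        smulU := fun k u => LinearEquiv.map_smul g1 k u
        injT := (θ2 q).injective
        injU := g1.injective
        map := fun f u => by
          rw [hPr, hPr]
          exact hgf q f u }
    obtain ⟨-, lam, mu, hlm, hT', hU'⟩ := hv _ s h1 h2 h3
    have hlam : lam ≠ 0 := fun e => by rw [e, zero_mul] at hlm; exact zero_ne_one hlm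
    set q' : P := ι (Units.mk0 lam hlam) * q with hq'
    have hq1 : q'.1.1 = g := one_mul g
    have e1 : ∀ i, θ1 q' (![xU, yU, zU] i) = ![xU, yU, zU] i := fun i => by
      show (scal (Units.mk0 lam hlam) : U ≃ₗ[K] U) (g1 (![xU, yU, zU] i)) = _
      rw [show g1 (![xU, yU, zU] i) = mu • ![xU, yU, zU] i from hU' i, scal_apply, smul_smul,
        Units.val_mk0, hlm, one_smul]
    have e2 : ∀ i, θ2 q' (![xT, yT, zT] i) = ![xT, yT, zT] i := fun i => by
      rw [hq', map_mul, LinearEquiv.mul_apply,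
        show θ2 q (![xT, yT, zT] i) = lam • ![xT, yT, zT] i from hT' i, LinearEquiv.map_smul, hι2,
        smul_smul, Units.val_mk0, mul_inv_cancel₀ hlam, one_smul]
    have hu1 : θ1 q' = 1 := congrArg Subtype.val (hG1 ⟨_, q', rfl⟩ (e1 0) (e1 1) (e1 2))
    have hu2 : θ2 q' = 1 := congrArg Subtype.val (hG2 ⟨_, q', rfl⟩ (e2 0) (e2 1) (e2 2))
    refine LinearEquiv.ext fun v => ?_
    obtain ⟨n, f, bv, hf, hs, -⟩ := exists_homE_sum hE hU v
    rw [hs, map_sum]
    refine Finset.sum_congr rfl fun i _ => ?_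
    have := hgf q' ⟨f i, hf i⟩ (bv i)
    rw [hq1, show q'.1.2 = 1 from hu1, hu2] at this
    exact this

end CfsgLib.Char.BaseThree
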